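import Cfsg.Agent.H206.VanPSU.Unip
import Cfsg.Agent.H113.PSU.Facts

/-!
# Arithmetic of the order of `PSU_n(q)` (helper206)
-/

set_option autoImplicit false
set_option linter.unusedSectionVars false
open Cfsg

namespace Cfsg.Agent.H206.VanPSU

open Cfsg.Agent.H113.PSU.Levi Cfsg.Agent.H113.PSU.Facts Cfsg.Agent.H387.VO Cfsg.Agent.H620
open Cfsg.Agent.H665.NoPQ Cfsg.Agent.H103.UniBlock Cfsg.Agent.ClassicalGeometry.GUBasic

section arith

variable {q l : ℕ}

theorem un_eq_uu (i : ℕ) : un q i = uu q i := rfl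

/-- The multiplicative order of `-q` modulo `l`. -/
noncomputable def ee (q l : ℕ) : ℕ := orderOf (-(q : ZMod l))

theorem ee_pos [hl : Fact l.Prime] (hq : ¬ l ∣ q) : 0 < ee q l := by
  have h0 : (-(q : ZMod l)) ≠ 0 := by
    rw [neg_ne_zero, Ne, ZMod.natCast_eq_zero_iff]
    exact hq
  have h1 := ZMod.pow_card_sub_one_eq_one h0
  exact Nat.pos_of_dvd_of_pos (orderOf_dvd_of_pow_eq_one h1) (Nat.sub_pos_of_lt hl.out.one_lt)

theorem dvd_uu_iff [hl : Fact l.Prime] (hq1 : 1 ≤ q) (i : ℕ) : l ∣ uu q i ↔ ee q l ∣ i := by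
  have h1 : ((uu q i : ℕ) : ZMod l) = (q : ZMod l) ^ i - (-1) ^ i := by
    have h2 := congrArg (fun z : ℤ => (z : ZMod l)) (uu_cast hq1 i)
    push_cast at h2
    exact h2
  unfold ee
  rw [← ZMod.natCast_eq_zero_iff, h1, orderOf_dvd_iff_pow_eq_one, sub_eq_zero]
  rcases Nat.even_or_odd i with h | h
  · rw [h.neg_one_pow, h.neg_pow]
  · rw [h.neg_one_pow, h.neg_pow, neg_eq_iff_eq_neg]

theorem ee_eq_one_iff [hl : Fact l.Prime] (hq1 : 1 ≤ q) : ee q l = 1 ↔ l ∣ q + 1 := by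
  rw [← Nat.dvd_one, ← dvd_uu_iff hq1]
  have : uu q 1 = q + 1 := by unfold uu; norm_num
  rw [this]

theorem card_eq {F : Type*} [Field F] [Fintype F] (hF : Fintype.card F = q ^ 2) {n : ℕ} (hn : 2 ≤ n) :
    Nat.gcd n (q + 1) * ((q + 1) * Nat.card (PSU n F q)) =
      q ^ (n * (n - 1) / 2) * ∏ i ∈ Finset.range n, uu q (i + 1) := by
  rw [S0280.result hF n hn]
  congr 1
  refine Finset.prod_congr rfl fun i _ => ?_
  unfold uu
  by_cases h : Even i
  · rw [if_pos h, if_neg (by rw [Nat.even_add_one]; exact not_not.2 h)]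
  · rw [if_neg h, if_pos (Nat.even_add_one.2 h)]

theorem card_fact [hl : Fact l.Prime] {F : Type*} [Field F] [Fintype F] (hF : Fintype.card F = q ^ 2) {n : ℕ}
    (hn : 2 ≤ n) (hlq : ¬ l ∣ q) (h1 : ¬ l ∣ q + 1) :
    (Nat.card (PSU n F q)).factorization l = ∑ i ∈ Finset.range n, (uu q (i + 1)).factorization l := by
  have hq : 2 ≤ q := two_le hF
  have hfin : Finite (PSU n F q) := inferInstance
  have h2 := congrArg (fun m : ℕ => m.factorization l) (card_eq hF hn)
  have hg0 : Nat.gcd n (q + 1) ≠ 0 := Nat.gcd_ne_zero_right (by omega)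
  have hp0 : ∏ i ∈ Finset.range n, uu q (i + 1) ≠ 0 :=
    Finset.prod_ne_zero_iff.2 fun i _ => (uu_pos hq (by omega)).ne'
  rw [Nat.factorization_mul hg0 (mul_ne_zero (by omega) Nat.card_pos.ne'),
    Nat.factorization_mul (by omega) Nat.card_pos.ne',
    Nat.factorization_mul (pow_ne_zero _ (by omega)) hp0] at h2
  simp only [Finsupp.coe_add, Pi.add_apply] at h2
  rw [Nat.factorization_eq_zero_of_not_dvd (fun h => h1 (h.trans (Nat.gcd_dvd_right _ _))),
    Nat.factorization_eq_zero_of_not_dvd h1,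
    Nat.factorization_eq_zero_of_not_dvd (fun h => hlq (hl.out.dvd_of_dvd_pow h)), zero_add, zero_add,
    zero_add] at h2
  rw [h2, Nat.factorization_prod fun i _ => (uu_pos hq (by omega)).ne']
  simp

/-- A prime of large order divides one factor only. -/
theorem card_fact_large [hl : Fact l.Prime] {F : Type*} [Field F] [Fintype F] (hF : Fintype.card F = q ^ 2) {n : ℕ}
    (hn : 2 ≤ n) (hlq : ¬ l ∣ q) (h2 : 2 ≤ ee q l) (h3 : ee q l ≤ n) (h4 : n < 2 * ee q l) :
    (Nat.card (PSU n F q)).factorization l = (uu q (ee q l)).factorization l := by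
  have hq : 2 ≤ q := two_le hF
  rw [card_fact hF hn hlq (fun h => by rw [← ee_eq_one_iff (by omega)] at h; omega)]
  rw [Finset.sum_eq_single (ee q l - 1)]
  · rw [Nat.sub_add_cancel (by omega)]
  · intro i hi hne
    rw [Finset.mem_range] at hi
    apply Nat.factorization_eq_zero_of_not_dvd
    rw [dvd_uu_iff (by omega)]
    rintro ⟨m, hm⟩
    rcases Nat.lt_or_ge m 2 with h | h
    · interval_cases m
      · omega
      · omega
    · have : ee q l * 2 ≤ ee q l * m := Nat.mul_le_mul_left _ h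
      omega
  · intro h
    rw [Finset.mem_range] at h
    omega

theorem ee_le [hl : Fact l.Prime] {F : Type*} [Field F] [Fintype F] (hF : Fintype.card F = q ^ 2) {n : ℕ}
    (hn : 2 ≤ n) (hlq : ¬ l ∣ q) (hd : l ∣ Nat.card (PSU n F q)) : ee q l ≤ n := by
  have hq : 2 ≤ q := two_le hF
  have h1 : l ∣ q ^ (n * (n - 1) / 2) * ∏ i ∈ Finset.range n, uu q (i + 1) := by
    rw [← card_eq hF hn]
    exact Dvd.dvd.mul_left (Dvd.dvd.mul_left hd _) _
  rcases (Nat.Prime.dvd_mul hl.out).1 h1 with h | h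
  · exact absurd (hl.out.dvd_of_dvd_pow h) hlq
  · obtain ⟨i, hi, h2⟩ := (Prime.dvd_finsetProd_iff hl.out.prime _).1 h
    rw [Finset.mem_range] at hi
    rw [dvd_uu_iff (by omega)] at h2
    exact (Nat.le_of_dvd (by omega) h2).trans (by omega)

/-- Units of `F` of order `N ∣ q + 1`. -/
theorem exists_unit {F : Type*} [Field F] [Fintype F] (hF : Fintype.card F = q ^ 2) {N : ℕ} (hN : N ∣ q ^ 2 - 1) :
    ∃ z : Fˣ, orderOf z = N := by
  have hq : 2 ≤ q := two_le hF
  have h1 : Nat.card Fˣ = q ^ 2 - 1 := by rw [Nat.card_units, Nat.card_eq_fintype_card, hF]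
  obtain ⟨g, hg⟩ := IsCyclic.exists_generator (α := Fˣ)
  have h2 : orderOf g = q ^ 2 - 1 := by rw [orderOf_eq_card_of_forall_mem_zpowers hg, h1]
  have hpos : 0 < q ^ 2 - 1 := by
    have : 1 < q ^ 2 := Nat.one_lt_pow two_ne_zero (by omega)
    omega
  obtain ⟨c, hc⟩ := hN
  have hc0 : c ≠ 0 := by rintro rfl; omega
  refine ⟨g ^ c, ?_⟩
  rw [orderOf_pow' g hc0, h2, hc, Nat.gcd_mul_left_left, Nat.mul_div_cancel _ (Nat.pos_of_ne_zero hc0)]

theorem exists_unit_succ {F : Type*} [Field F] [Fintype F] (hF : Fintype.card F = q ^ 2) {N : ℕ} (hN : N ∣ q + 1) :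
    ∃ z : Fˣ, orderOf z = N ∧ z ^ (q + 1) = 1 := by
  have hq : 2 ≤ q := two_le hF
  obtain ⟨z, hz⟩ := exists_unit hF (hN.trans (by
    have := Nat.sq_sub_sq q 1
    rw [one_pow] at this
    exact ⟨q - 1, this⟩ : q + 1 ∣ q ^ 2 - 1))
  exact ⟨z, hz, by rw [← orderOf_dvd_iff_pow_eq_one, hz]; exact hN⟩

end arith

/-! ### Characters of defect zero -/

section DZ

variable {F : Type} [Field F] [Fintype F] {q l n : ℕ}

/-- Characters of defect zero for the primes of order `n - 1` or `n`. -/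
theorem hasDZ_large [hl : Fact l.Prime] (hF : Fintype.card F = q ^ 2) (hn : 4 ≤ n) (hlq : ¬ l ∣ q)
    (he : ee q l = n ∨ ee q l = n - 1) : HasDZ l (PSU n F q) := by
  classical
  have hq : 2 ≤ q := two_le hF
  obtain ⟨r, hr, hchar, hrq⟩ := prime_pow hF
  have : Fact r.Prime := ⟨hr⟩
  have hfact := card_fact_large hF (n := n) (by omega) hlq (by omega) (by omega) (by omega)
  have hl1 : ¬ l ∣ q + 1 := fun h => by rw [← ee_eq_one_iff (by omega)] at h; omega
  have hl2 : ¬ l ∣ q ^ 2 - 1 := by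
    intro h
    have h2 : uu q 2 = q ^ 2 - 1 := by unfold uu; norm_num
    rw [← h2, dvd_uu_iff (by omega)] at h
    have := Nat.le_of_dvd (by omega) h
    omega
  have hlr : ¬ l ∣ r := by
    intro h
    exact hlq (((Nat.prime_dvd_prime_iff_eq hl.out hr).1 h) ▸ (hrq r hr).2 rfl)
  -- from a degree
  have key : ∀ (φ : IrrCharacter (PSU n F q)) (X Y : ℕ), ¬ l ∣ X → X * charDegree (φ : PSU n F q → ℂ) = Y →
      uu q (ee q l) ∣ Y → HasDZ l (PSU n F q) := by
    intro φ X Y hX hXY hY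
    refine H720.PV.hasDZ_of_degree φ.2 (Cfsg.Agent.Blocks.Basic.irr_one_eq_charDegree φ.2) ?_
    rw [hfact]
    have h1 : l ^ (uu q (ee q l)).factorization l ∣ X * charDegree (φ : PSU n F q → ℂ) := by
      rw [hXY]; exact (Nat.ordProj_dvd _ _).trans hY
    exact (Nat.Coprime.dvd_of_dvd_mul_left (Nat.Coprime.pow_left _ ((Nat.Prime.coprime_iff_not_dvd hl.out).2 hX)) h1)
  by_cases hex : ee q l = exn n
  · by_cases hev : Even n
    · obtain ⟨φ, hφ⟩ := exF (F := F) hF hn
      refine key φ _ _ ?_ hφ ?_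
      · intro h
        rcases (Nat.Prime.dvd_mul hl.out).1 h with h | h
        · exact hl2 h
        · exact hl1 h
      · have : ee q l = n := by rw [hex]; unfold exn; rw [if_pos hev]
        rw [this]
        exact ⟨q ^ 2 * uu q (n - 3), by ring⟩
    · obtain ⟨φ, hφ⟩ := exG (F := F) hF hn
      refine key φ _ _ ?_ hφ ?_
      · intro h
        rcases (Nat.Prime.dvd_mul hl.out).1 h with h | h
        · exact hl2 h
        · exact hl1 h
      · have : ee q l = n - 1 := by rw [hex]; unfold exn; rw [if_neg hev]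
        rw [this]
        exact ⟨q ^ 3 * uu q (n - 2), by ring⟩
  · obtain ⟨η, e, t, a, hη, he1, ht, hA⟩ := levi_char hF (hasCusU F q) (p := r) hn
    have hmem : ee q l ∈ idx n := mem_idx hn (by omega) (by omega) hex (by omega)
    rw [AA_eq hn] at hA
    refine H720.PV.hasDZ_of_degree hη he1 ?_
    rw [hfact]
    have h1 : l ^ (uu q (ee q l)).factorization l ∣ r ^ a * (e * t) :=
      (Nat.ordProj_dvd _ _).trans ((Finset.dvd_prod_of_mem _ hmem).trans hA)
    have h2 := Nat.Coprime.dvd_of_dvd_mul_left (Nat.Coprime.pow_left _ (Nat.Coprime.pow_right _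
      ((Nat.Prime.coprime_iff_not_dvd hl.out).2 hlr))) h1
    exact Nat.Coprime.dvd_of_dvd_mul_right (Nat.Coprime.pow_left _
      ((Nat.Prime.coprime_iff_not_dvd hl.out).2 (fun h => hl1 (h.trans ht)))) h2

/-- An element of order `N`, `N ∣ q ^ e - (-1) ^ e` prime to `q + 1`. -/
theorem exists_orderOf {r : ℕ} [Fact r.Prime] [CharP F r] (hF : Fintype.card F = q ^ 2) (hn : 3 ≤ n) {e : ℕ} (he1 : 1 ≤ e)
    (he : e ≤ n) {N : ℕ} (hN : N ∣ uu q e) (hco : N.Coprime (q + 1)) : ∃ g : PSU n F q, orderOf g = N := by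
  obtain ⟨ι, _, _, _, hι, A, hA, hAo⟩ := exists_semisimple (F := F) (r := r) hF he1 (N := N) hN
  rcases Nat.lt_or_ge e n with h | h
  · have hne : Nonempty (Fin (n - e)) := ⟨⟨0, by omega⟩⟩
    obtain ⟨g, hg⟩ := exists_of_coprime hF hn (ι := ι) (κ := Fin (n - e)) (by rw [hι, Fintype.card_fin]; omega)
      hA (B := 1) (uni_one hF) (by
        rw [det_eq_one hF hA (pow_orderOf_eq_one A) (by rw [hAo]; exact hco), Units.val_one, Matrix.det_one, mul_one])
      (by rw [orderOf_one]; exact Nat.coprime_one_right _)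
    exact ⟨g, by rw [hg, orderOf_one, mul_one, hAo]⟩
  · obtain ⟨g, hg⟩ := exists_of_one hF hn (ι := ι) (by omega) hA (by rw [hAo]; exact hco)
    exact ⟨g, by rw [hg, hAo]⟩

end DZ

end Cfsg.Agent.H206.VanPSU
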