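import Cfsg.Agent.H206.VanPSU.Elt
import Cfsg.Agent.H376.PrimeOrd

/-!
# Block matrices for elements of `PSU_n(q)` (helper206)
-/

set_option autoImplicit false
set_option linter.unusedSectionVars false
open Cfsg Matrix

namespace Cfsg.Agent.H206.VanPSU

open Cfsg.Agent.H186 Cfsg.Agent.ClassicalGeometry.GUBasic Cfsg.Agent.H103.PGUUpper Cfsg.Agent.H103.UniBlock
open Cfsg.Agent.LieClassical

variable {F : Type*} [Field F] [Fintype F] {q : ℕ}

section gen

variable {ι κ : Type*} [Fintype ι] [DecidableEq ι] [Fintype κ] [DecidableEq κ]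

theorem uni_smul {A : Matrix ι ι F} (hA : Uni q A) {c : F} (hc : c ^ (q + 1) = 1) :
    Uni q (c • A) := by
  obtain ⟨x, hx, h⟩ := hA
  refine ⟨x, hx, ?_⟩
  have h1 : st q (c • A) = c ^ q • st q A := by
    ext i j
    rw [st_apply, Matrix.smul_apply, Matrix.smul_apply, st_apply, smul_eq_mul, smul_eq_mul, mul_pow]
  rw [h1, Matrix.smul_mul, Matrix.smul_mul, Matrix.mul_smul, h, smul_smul, ← pow_succ, hc, one_smul]

theorem uni_pow (hF : Fintype.card F = q ^ 2) {A : Matrix ι ι F} (hA : Uni q A) (k : ℕ) : Uni q (A ^ k) := by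
  obtain ⟨x, hx, h⟩ := hA
  refine ⟨x, hx, ?_⟩
  induction k with
  | zero => rw [pow_zero, st_one hF, one_mul, mul_one]
  | succ k ih =>
    rw [pow_succ A k, st_mul hF]
    calc st q A * st q (A ^ k) * x * (A ^ k * A) = st q A * (st q (A ^ k) * x * A ^ k) * A := by
          simp only [mul_assoc]
      _ = x := by rw [ih, h]

theorem uni_diag (hF : Fintype.card F = q ^ 2) {c : ι → F} (hc : ∀ i, c i ^ (q + 1) = 1) :
    Uni q (Matrix.diagonal c) := by
  have hq := two_le hF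
  refine ⟨1, isUnit_one, ?_⟩
  have h1 : st q (Matrix.diagonal c) = Matrix.diagonal (fun i => c i ^ q) := by
    ext i j
    rw [st_apply, Matrix.diagonal_apply, Matrix.diagonal_apply]
    by_cases hij : i = j
    · rw [if_pos hij, if_pos hij.symm, hij]
    · rw [if_neg hij, if_neg (fun h => hij h.symm), zero_pow (by omega)]
  rw [mul_one, h1, Matrix.diagonal_mul_diagonal]
  have h2 : (fun i => c i ^ q * c i) = fun _ => (1 : F) := by
    funext i; rw [← pow_succ, hc]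
  rw [h2, Matrix.diagonal_one]

/-- The block sum of two units. -/
def bs (A : (Matrix ι ι F)ˣ) (B : (Matrix κ κ F)ˣ) : (Matrix (ι ⊕ κ) (ι ⊕ κ) F)ˣ :=
  Units.map (blk (Equiv.refl (ι ⊕ κ))) (MulEquiv.prodUnits.symm (A, B))

theorem coe_bs (A : (Matrix ι ι F)ˣ) (B : (Matrix κ κ F)ˣ) :
    ((bs A B : (Matrix (ι ⊕ κ) (ι ⊕ κ) F)ˣ) : Matrix (ι ⊕ κ) (ι ⊕ κ) F) =
      fromBlocks (A : Matrix ι ι F) 0 0 (B : Matrix κ κ F) := rfl

theorem bs_pow (A : (Matrix ι ι F)ˣ) (B : (Matrix κ κ F)ˣ) (k : ℕ) : (bs A B) ^ k = bs (A ^ k) (B ^ k) := by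
  unfold bs
  rw [← map_pow, ← map_pow, Prod.pow_mk]

theorem bs_one : bs (1 : (Matrix ι ι F)ˣ) (1 : (Matrix κ κ F)ˣ) = 1 := by
  apply Units.ext
  rw [coe_bs, Units.val_one, Units.val_one, Units.val_one, fromBlocks_one]

theorem uni_bs (hF : Fintype.card F = q ^ 2) {A : (Matrix ι ι F)ˣ} {B : (Matrix κ κ F)ˣ}
    (hA : Uni q (A : Matrix ι ι F)) (hB : Uni q (B : Matrix κ κ F)) :
    Uni q ((bs A B : (Matrix (ι ⊕ κ) (ι ⊕ κ) F)ˣ) : Matrix (ι ⊕ κ) (ι ⊕ κ) F) := by
  have hq := two_le hF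
  rw [coe_bs]
  exact uni_fromBlocks (by omega) hA hB

theorem det_bs (A : (Matrix ι ι F)ˣ) (B : (Matrix κ κ F)ˣ) :
    ((bs A B : (Matrix (ι ⊕ κ) (ι ⊕ κ) F)ˣ) : Matrix (ι ⊕ κ) (ι ⊕ κ) F).det =
      (A : Matrix ι ι F).det * (B : Matrix κ κ F).det := by
  rw [coe_bs, Matrix.det_fromBlocks_zero₂₁]

theorem bs_scalar_iff (A : (Matrix ι ι F)ˣ) (B : (Matrix κ κ F)ˣ) (c : F) :
    ((bs A B : (Matrix (ι ⊕ κ) (ι ⊕ κ) F)ˣ) : Matrix (ι ⊕ κ) (ι ⊕ κ) F) = Matrix.scalar (ι ⊕ κ) c ↔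
      (A : Matrix ι ι F) = Matrix.scalar ι c ∧ (B : Matrix κ κ F) = Matrix.scalar κ c := by
  have h4 : (Matrix.scalar (ι ⊕ κ) c) = fromBlocks (Matrix.scalar ι c) 0 0 (Matrix.scalar κ c) := by
    rw [Matrix.scalar_apply, Matrix.scalar_apply, Matrix.scalar_apply, Matrix.fromBlocks_diagonal]
    congr 1
    ext i
    rcases i with i | i <;> rfl
  rw [coe_bs, h4, Matrix.fromBlocks_inj]
  constructor
  · rintro ⟨h1, -, -, h2⟩; exact ⟨h1, h2⟩
  · rintro ⟨h1, h2⟩; exact ⟨h1, rfl, rfl, h2⟩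

/-- The order of a block sum. -/
theorem bs_orderOf (A : (Matrix ι ι F)ˣ) (B : (Matrix κ κ F)ˣ) :
    orderOf (bs A B) = Nat.lcm (orderOf A) (orderOf B) := by
  have h : ∀ k : ℕ, (bs A B) ^ k = 1 ↔ A ^ k = 1 ∧ B ^ k = 1 := by
    intro k
    rw [bs_pow]
    constructor
    · intro h
      have h1 := congrArg Units.val h
      rw [coe_bs, Units.val_one, ← fromBlocks_one, Matrix.fromBlocks_inj] at h1
      exact ⟨Units.ext h1.1, Units.ext h1.2.2.2⟩
    · rintro ⟨h1, h2⟩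
      rw [h1, h2, bs_one]
  apply Nat.dvd_antisymm
  · apply orderOf_dvd_of_pow_eq_one
    rw [h]
    exact ⟨orderOf_dvd_iff_pow_eq_one.1 (Nat.dvd_lcm_left _ _), orderOf_dvd_iff_pow_eq_one.1 (Nat.dvd_lcm_right _ _)⟩
  · have h1 := (h (orderOf (bs A B))).1 (pow_orderOf_eq_one _)
    exact Nat.lcm_dvd (orderOf_dvd_of_pow_eq_one h1.1) (orderOf_dvd_of_pow_eq_one h1.2)

theorem orderOf_scalar_dvd [Nonempty ι] {X : (Matrix ι ι F)ˣ} {k : ℕ} {c : F}
    (hX : ((X ^ k : (Matrix ι ι F)ˣ) : Matrix ι ι F) = Matrix.scalar ι c) : orderOf c ∣ orderOf X := by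
  apply orderOf_dvd_of_pow_eq_one
  have h3 : (X ^ k) ^ orderOf X = 1 := by rw [← pow_mul, mul_comm, pow_mul, pow_orderOf_eq_one, one_pow]
  have h4 := congrArg Units.val h3
  rw [Units.val_pow_eq_pow_val, hX, ← map_pow, Units.val_one, ← map_one (Matrix.scalar ι)] at h4
  exact Matrix.scalar_inj.1 h4

/-- **Block sums of coprime orders**. -/
theorem exists_of_coprime {d : ℕ} (hF : Fintype.card F = q ^ 2) (hd : 3 ≤ d) [Nonempty ι] [Nonempty κ]
    (hι : Fintype.card ι + Fintype.card κ = d)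
    {A : (Matrix ι ι F)ˣ} (hA : Uni q (A : Matrix ι ι F)) {B : (Matrix κ κ F)ˣ} (hB : Uni q (B : Matrix κ κ F))
    (hdet : (A : Matrix ι ι F).det * (B : Matrix κ κ F).det = 1) (hco : (orderOf A).Coprime (orderOf B)) :
    ∃ g : PSU d F q, orderOf g = orderOf A * orderOf B := by
  obtain ⟨g, hg⟩ := exists_psu hF hd (by rw [Fintype.card_sum, hι]) (bs A B) (uni_bs hF hA hB)
    (by rw [det_bs, hdet])
  refine ⟨g, ?_⟩
  apply Nat.dvd_antisymm
  · apply orderOf_dvd_of_pow_eq_one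
    rw [hg]
    refine ⟨1, ?_⟩
    rw [bs_pow, pow_mul, pow_orderOf_eq_one, one_pow, mul_comm (orderOf A), pow_mul,
      pow_orderOf_eq_one, one_pow, bs_one, Units.val_one, map_one]
  · obtain ⟨c, hc⟩ := (hg (orderOf g)).1 (pow_orderOf_eq_one g)
    rw [bs_pow, bs_scalar_iff] at hc
    obtain ⟨h1, h2⟩ := hc
    have h5 := Nat.dvd_gcd (orderOf_scalar_dvd h1) (orderOf_scalar_dvd h2)
    rw [hco, Nat.dvd_one, orderOf_eq_one_iff] at h5
    rw [h5, map_one] at h1 h2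
    exact hco.mul_dvd_of_dvd_of_dvd (orderOf_dvd_of_pow_eq_one (Units.ext h1))
      (orderOf_dvd_of_pow_eq_one (Units.ext h2))

/-- One block, of order prime to `q + 1`. -/
theorem exists_of_one {d : ℕ} (hF : Fintype.card F = q ^ 2) (hd : 3 ≤ d) (hι : Fintype.card ι = d)
    {A : (Matrix ι ι F)ˣ} (hA : Uni q (A : Matrix ι ι F)) (hco : (orderOf A).Coprime (q + 1)) :
    ∃ g : PSU d F q, orderOf g = orderOf A := by
  have hne : Nonempty ι := Fintype.card_pos_iff.1 (by omega)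
  obtain ⟨g, hg⟩ := exists_psu hF hd hι A hA (det_eq_one hF hA (pow_orderOf_eq_one A) hco)
  refine ⟨g, ?_⟩
  apply Nat.dvd_antisymm
  · apply orderOf_dvd_of_pow_eq_one
    rw [hg]
    exact ⟨1, by rw [pow_orderOf_eq_one, Units.val_one, map_one]⟩
  · obtain ⟨c, hc⟩ := (hg (orderOf g)).1 (pow_orderOf_eq_one g)
    have h1 : c ^ orderOf A = 1 := by
      have h3 : (A ^ orderOf g) ^ orderOf A = 1 := by
        rw [← pow_mul, mul_comm, pow_mul, pow_orderOf_eq_one, one_pow]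
      have h4 := congrArg Units.val h3
      rw [Units.val_pow_eq_pow_val, hc, ← map_pow, Units.val_one, ← map_one (Matrix.scalar ι)] at h4
      exact Matrix.scalar_inj.1 h4
    have h2 : c ^ (q + 1) = 1 := by
      apply scalar_pow (ι := ι) hF
      rw [← hc, Units.val_pow_eq_pow_val]
      exact uni_pow hF hA _
    have h5 := Nat.dvd_gcd (orderOf_dvd_of_pow_eq_one h1) (orderOf_dvd_of_pow_eq_one h2)
    rw [hco, Nat.dvd_one, orderOf_eq_one_iff] at h5
    rw [h5, map_one] at hc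
    exact orderOf_dvd_of_pow_eq_one (Units.ext hc)

end gen

/-! ### Semisimple blocks -/

/-- The factors of the order of `GU_n(q)`. -/
def un (q i : ℕ) : ℕ := if Even i then q ^ i - 1 else q ^ i + 1

/-- Elements of order `N` dividing `q ^ e - (-1) ^ e` in `GU_e(q)`. -/
theorem exists_semisimple {r : ℕ} [Fact r.Prime] [CharP F r] (hF : Fintype.card F = q ^ 2) {e : ℕ} (he : 1 ≤ e)
    {N : ℕ} (hN : N ∣ un q e) :
    ∃ (ι : Type) (_ : Fintype ι) (_ : DecidableEq ι) (_ : Nonempty ι) (_ : Fintype.card ι = e)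
      (A : (Matrix ι ι F)ˣ), Uni q (A : Matrix ι ι F) ∧ orderOf A = N := by
  have hq := two_le hF
  unfold un at hN
  split_ifs at hN with hev
  · obtain ⟨m, hm⟩ := hev
    have hm0 : m ≠ 0 := by omega
    obtain ⟨A, hA⟩ := H376.PrimeOrd.exists_GL (F := F) m hm0 N (by
      rw [Nat.card_eq_fintype_card, hF, ← pow_mul]
      have : 2 * m = e := by omega
      rwa [this])
    -- the dual block
    let D : GL (Fin m) F →* (Matrix (Fin m) (Fin m) F)ˣ :=
      { toFun := fun X => ⟨st q ((X⁻¹ : GL (Fin m) F) : Matrix (Fin m) (Fin m) F),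
          st q (X : Matrix (Fin m) (Fin m) F), by rw [← st_mul hF, Units.mul_inv, st_one hF],
          by rw [← st_mul hF, Units.inv_mul, st_one hF]⟩
        map_one' := by
          apply Units.ext
          change st q (((1 : GL (Fin m) F)⁻¹ : GL (Fin m) F) : Matrix (Fin m) (Fin m) F) = 1
          rw [inv_one, Units.val_one, st_one hF]
        map_mul' := fun X Y => by
          apply Units.ext
          change st q (((X * Y)⁻¹ : GL (Fin m) F) : Matrix (Fin m) (Fin m) F) =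
            st q ((X⁻¹ : GL (Fin m) F) : Matrix (Fin m) (Fin m) F) *
              st q ((Y⁻¹ : GL (Fin m) F) : Matrix (Fin m) (Fin m) F)
          rw [_root_.mul_inv_rev, Units.val_mul, st_mul hF] }
    refine ⟨Fin m ⊕ Fin m, inferInstance, inferInstance, ⟨Sum.inl ⟨0, by omega⟩⟩, ?_, bs A (D A), ?_, ?_⟩
    · rw [Fintype.card_sum, Fintype.card_fin]; omega
    · rw [coe_bs]
      exact uni_hyp hF A
    · rw [bs_orderOf, hA]
      apply Nat.lcm_eq_left
      rw [← hA]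
      exact orderOf_map_dvd D A
  · have hodd := Nat.not_even_iff_odd.1 hev
    obtain ⟨f, hf⟩ : ∃ f, q = r ^ f := by
      obtain ⟨s, hs0, hs⟩ := FiniteField.card F r
      rw [hF] at hs
      have h1 : q ∣ r ^ (s : ℕ) := by rw [← hs]; exact dvd_pow_self q two_ne_zero
      obtain ⟨f, -, hf⟩ := (Nat.dvd_prime_pow hs0).1 h1
      exact ⟨f, hf⟩
    obtain ⟨A, hA, hAo⟩ := exists_singer_unitary (F := F) (p := r) hf hF hodd
    obtain ⟨k, hk⟩ := hN
    refine ⟨Fin e, inferInstance, inferInstance, ⟨⟨0, by omega⟩⟩, Fintype.card_fin e, A ^ k, ?_, ?_⟩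
    · rw [Units.val_pow_eq_pow_val]
      exact uni_pow hF hA k
    · have hk0 : k ≠ 0 := by rintro rfl; simp at hk
      rw [orderOf_pow' A hk0, hAo, hk, Nat.gcd_mul_left_left, Nat.mul_div_cancel _ (Nat.pos_of_ne_zero hk0)]

/-! ### Unipotent blocks -/

/-- The transvection. -/
def tv (F : Type*) [Field F] : (Matrix (Fin 2) (Fin 2) F)ˣ :=
  ⟨!![1, 1; 0, 1], !![1, -1; 0, 1], by simp [Matrix.one_fin_two], by simp [Matrix.one_fin_two]⟩

theorem coe_tv : ((tv F : (Matrix (Fin 2) (Fin 2) F)ˣ) : Matrix (Fin 2) (Fin 2) F) = !![1, 1; 0, 1] := rfl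

theorem uni_tv (hF : Fintype.card F = q ^ 2) :
    Uni q ((tv F : (Matrix (Fin 2) (Fin 2) F)ˣ) : Matrix (Fin 2) (Fin 2) F) := by
  have hq := two_le hF
  refine ⟨!![0, 1; -1, 0], ?_, ?_⟩
  · rw [Matrix.isUnit_iff_isUnit_det, Matrix.det_fin_two_of]
    simp
  · have h1 : st q ((tv F : (Matrix (Fin 2) (Fin 2) F)ˣ) : Matrix (Fin 2) (Fin 2) F) = !![1, 0; 1, 1] := by
      ext i j
      rw [st_apply, coe_tv]
      fin_cases i <;> fin_cases j <;> simp [show q ≠ 0 by omega]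
    rw [h1, coe_tv]
    ext i j
    fin_cases i <;> fin_cases j <;> simp [Matrix.mul_apply, Fin.sum_univ_two]

theorem det_tv : ((tv F : (Matrix (Fin 2) (Fin 2) F)ˣ) : Matrix (Fin 2) (Fin 2) F).det = 1 := by
  rw [coe_tv, Matrix.det_fin_two_of]
  simp

theorem tv_pow (k : ℕ) : (((tv F) ^ k : (Matrix (Fin 2) (Fin 2) F)ˣ) : Matrix (Fin 2) (Fin 2) F) = !![1, (k : F); 0, 1] := by
  induction k with
  | zero => rw [pow_zero, Units.val_one, Matrix.one_fin_two, Nat.cast_zero]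
  | succ k ih =>
    rw [pow_succ, Units.val_mul, ih, coe_tv]
    ext i j
    fin_cases i <;> fin_cases j <;> simp [Matrix.mul_apply, Fin.sum_univ_two, add_comm]

theorem orderOf_tv {r : ℕ} [CharP F r] : orderOf (tv F) = r := by
  apply Nat.dvd_antisymm
  · apply orderOf_dvd_of_pow_eq_one
    apply Units.ext
    rw [tv_pow, CharP.cast_eq_zero, Units.val_one, Matrix.one_fin_two]
  · rw [← CharP.cast_eq_zero_iff F r]
    have h := congrArg Units.val (pow_orderOf_eq_one (tv F))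
    rw [tv_pow, Units.val_one, Matrix.one_fin_two] at h
    exact congrFun (congrFun h 0) 1

/-- A power of a multiple of the transvection that is a scalar. -/
theorem tv_scalar {r : ℕ} [CharP F r] {k : ℕ} {g c : F} (hg : g ≠ 0)
    (h : g ^ k • (((tv F) ^ k : (Matrix (Fin 2) (Fin 2) F)ˣ) : Matrix (Fin 2) (Fin 2) F) = Matrix.scalar (Fin 2) c) :
    r ∣ k ∧ g ^ k = c := by
  rw [tv_pow] at h
  have h0 := congrFun (congrFun h 0) 0
  have h1 := congrFun (congrFun h 0) 1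
  simp at h0 h1
  refine ⟨?_, h0⟩
  rw [← CharP.cast_eq_zero_iff F r]
  rcases h1 with h1 | h1
  · exact absurd h1.1 hg
  · exact h1

/-- A unipotent element of order `4` in characteristic `2`. -/
def qu (F : Type*) [Field F] (b : F) : (Matrix (Fin 3) (Fin 3) F)ˣ :=
  ⟨!![1, 1, b; 0, 1, 1; 0, 0, 1], !![1, -1, 1 - b; 0, 1, -1; 0, 0, 1], by
    ext i j; fin_cases i <;> fin_cases j <;> simp [Matrix.mul_apply, Fin.sum_univ_three] <;> ring, by
    ext i j; fin_cases i <;> fin_cases j <;> simp [Matrix.mul_apply, Fin.sum_univ_three] <;> ring⟩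

theorem coe_qu (b : F) : ((qu F b : (Matrix (Fin 3) (Fin 3) F)ˣ) : Matrix (Fin 3) (Fin 3) F) =
    !![1, 1, b; 0, 1, 1; 0, 0, 1] := rfl

theorem det_qu (b : F) : ((qu F b : (Matrix (Fin 3) (Fin 3) F)ˣ) : Matrix (Fin 3) (Fin 3) F).det = 1 := by
  rw [coe_qu, Matrix.det_fin_three]
  simp

theorem exists_trace_one [CharP F 2] (hF : Fintype.card F = q ^ 2) : ∃ b : F, b + b ^ q = 1 := by
  obtain ⟨c, hc⟩ := exists_pow_ne hF
  obtain ⟨σ, hσ⟩ := exists_powHom hF
  have h1 : c + c ^ q ≠ 0 := fun h => hc (by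
    have := eq_neg_of_add_eq_zero_left h
    rw [CharTwo.neg_eq] at this
    exact this.symm)
  have h2 : (c ^ q) ^ q = c := by
    rw [← pow_mul, ← sq, ← hF]; exact FiniteField.pow_card c
  refine ⟨c / (c + c ^ q), ?_⟩
  have h3 : (c / (c + c ^ q)) ^ q = c ^ q / (c + c ^ q) := by
    rw [← hσ, map_div₀, map_add, hσ, hσ, h2, add_comm (c ^ q)]
  rw [h3, ← add_div, div_self h1]

theorem uni_qu [CharP F 2] (hF : Fintype.card F = q ^ 2) {b : F} (hb : b + b ^ q = 1) :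
    Uni q ((qu F b : (Matrix (Fin 3) (Fin 3) F)ˣ) : Matrix (Fin 3) (Fin 3) F) := by
  have hq := two_le hF
  refine ⟨!![0, 0, 1; 0, 1, 0; 1, 0, 0], ?_, ?_⟩
  · rw [Matrix.isUnit_iff_isUnit_det, Matrix.det_fin_three]
    simp
  · have h1 : st q ((qu F b : (Matrix (Fin 3) (Fin 3) F)ˣ) : Matrix (Fin 3) (Fin 3) F) =
        !![1, 0, 0; 1, 1, 0; b ^ q, 1, 1] := by
      ext i j
      rw [st_apply, coe_qu]
      fin_cases i <;> fin_cases j <;> simp [show q ≠ 0 by omega]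
    have h2 : (1 : F) + 1 = 0 := CharTwo.add_self_eq_zero 1
    rw [h1, coe_qu]
    ext i j
    fin_cases i <;> fin_cases j <;> simp [Matrix.mul_apply, Fin.sum_univ_three, h2]
    rw [add_right_comm, hb, h2]

theorem qu_sq [CharP F 2] (b : F) : (((qu F b) ^ 2 : (Matrix (Fin 3) (Fin 3) F)ˣ) : Matrix (Fin 3) (Fin 3) F) =
    !![1, 0, 1; 0, 1, 0; 0, 0, 1] := by
  have h2 : (1 : F) + 1 = 0 := CharTwo.add_self_eq_zero 1
  rw [pow_two, Units.val_mul, coe_qu]
  ext i j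
  fin_cases i <;> fin_cases j <;> simp [Matrix.mul_apply, Fin.sum_univ_three, h2]
  rw [add_right_comm, CharTwo.add_self_eq_zero, zero_add]

theorem qu_four [CharP F 2] (b : F) : (qu F b) ^ 4 = 1 := by
  have h2 : (1 : F) + 1 = 0 := CharTwo.add_self_eq_zero 1
  have h3 : (qu F b) ^ 4 = ((qu F b) ^ 2) * (qu F b) ^ 2 := by rw [← pow_add]
  rw [h3]
  apply Units.ext
  rw [Units.val_mul, qu_sq, Units.val_one]
  ext i j
  fin_cases i <;> fin_cases j <;> simp [Matrix.mul_apply, Fin.sum_univ_three, h2]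

theorem orderOf_qu [CharP F 2] (b : F) : orderOf (qu F b) = 4 := by
  have h : orderOf (qu F b) = 2 ^ (1 + 1) := by
    apply orderOf_eq_prime_pow
    · intro h
      have h1 := congrArg Units.val h
      rw [pow_one, qu_sq, Units.val_one] at h1
      have := congrFun (congrFun h1 0) 2
      simp at this
    · exact qu_four b
  exact h

/-- A power of the element of order `4` that is a scalar. -/
theorem qu_scalar [CharP F 2] {b : F} {k : ℕ} {c : F}
    (h : (((qu F b) ^ k : (Matrix (Fin 3) (Fin 3) F)ˣ) : Matrix (Fin 3) (Fin 3) F) = Matrix.scalar (Fin 3) c) :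
    4 ∣ k ∧ c = 1 := by
  have h1 := orderOf_scalar_dvd h
  rw [orderOf_qu] at h1
  have h2 : c ^ 4 = 1 := orderOf_dvd_iff_pow_eq_one.1 h1
  have h3 : c = 1 := by
    have h4 : (c ^ 2 - 1) ^ 2 = 0 := by
      have : (c ^ 2 - 1) ^ 2 = c ^ 4 - 1 - 2 * (c ^ 2 - 1) := by ring
      rw [this, h2, CharTwo.two_eq_zero]; ring
    have h5 : (c - 1) ^ 2 = 0 := by
      have h6 : c ^ 2 - 1 = 0 := by
        rcases pow_eq_zero_iff (two_ne_zero) |>.1 h4 with h
        exact h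
      have : (c - 1) ^ 2 = c ^ 2 - 1 - 2 * (c - 1) := by ring
      rw [this, h6, CharTwo.two_eq_zero]; ring
    have h6 := pow_eq_zero_iff (two_ne_zero) |>.1 h5
    exact sub_eq_zero.1 h6
  refine ⟨?_, h3⟩
  rw [h3, map_one] at h
  rw [← orderOf_qu b]
  exact orderOf_dvd_of_pow_eq_one (Units.ext h)

end Cfsg.Agent.H206.VanPSU
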