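import Cfsg.Agent.H103.UniBlock
import Cfsg.Agent.LieClassical.SUBasic

/-!
# Elements of `PSU_n(q)` from matrices preserving some invertible sesquilinear form (helper206)
-/

set_option autoImplicit false
set_option linter.unusedSectionVars false
open Cfsg Matrix

namespace Cfsg.Agent.H206.VanPSU

open Cfsg.Agent.H186 Cfsg.Agent.ClassicalGeometry.GUBasic Cfsg.Agent.H103.PGUUpper Cfsg.Agent.H103.UniBlock
open Cfsg.Agent.LieClassical

variable {F : Type*} [Field F] [Fintype F] {q : ℕ}

/-- The elements of `PSU_n(q)` defined by a matrix of determinant `1` preserving an invertible form. -/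
theorem exists_psu {d : ℕ} (hF : Fintype.card F = q ^ 2) (hd : 3 ≤ d) {ι : Type*} [Fintype ι]
    [DecidableEq ι] (hι : Fintype.card ι = d) (C : (Matrix ι ι F)ˣ) (hC : Uni q (C : Matrix ι ι F))
    (hdet : (C : Matrix ι ι F).det = 1) :
    ∃ g : PSU d F q, ∀ k : ℕ, g ^ k = 1 ↔
      ∃ c : F, ((C ^ k : (Matrix ι ι F)ˣ) : Matrix ι ι F) = Matrix.scalar ι c := by
  classical
  let e : Fin d ≃ ι := Fintype.equivOfCardEq (by rw [Fintype.card_fin, hι])
  let R : Matrix ι ι F →* Matrix (Fin d) (Fin d) F :=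
    { toFun := fun M => M.submatrix e e
      map_one' := Matrix.submatrix_one_equiv e
      map_mul' := fun M N => (Matrix.submatrix_mul_equiv M N e e e).symm }
  have hR : ∀ M : Matrix ι ι F, R M = M.submatrix e e := fun M => rfl
  obtain ⟨D, hD⟩ : ∃ D : GL (Fin d) F, (D : Matrix (Fin d) (Fin d) F) = R (C : Matrix ι ι F) :=
    ⟨Units.map R C, rfl⟩
  have hUni : Uni q (D : Matrix (Fin d) (Fin d) F) := by
    rw [hD]; exact uni_submatrix e hC
  obtain ⟨x, hx, hx1⟩ := hUni
  obtain ⟨y, ⟨y, rfl⟩, M, hM1, hM2⟩ := exists_isometry hF _ x hx D.isUnit hx1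
  let M' : GL (Fin d) F := ⟨M, st q M, mul_eq_one_comm.1 hM1, hM1⟩
  have hM' : M' ∈ Cfsg.GU d F q := (mem_GU_iff_st hF M').2 hM1
  have hconj : M' = y * D * y⁻¹ := by
    rw [eq_mul_inv_iff_mul_eq]
    apply Units.ext
    exact hM2.symm
  have hMdet : M.det = 1 := by
    have h1 : (M' : Matrix (Fin d) (Fin d) F) = (y : Matrix (Fin d) (Fin d) F) * D *
        ((y⁻¹ : GL (Fin d) F) : Matrix (Fin d) (Fin d) F) := congrArg Units.val hconj
    have h2 : (y : Matrix (Fin d) (Fin d) F).det *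
        ((y⁻¹ : GL (Fin d) F) : Matrix (Fin d) (Fin d) F).det = 1 := by
      rw [← Matrix.det_mul, Units.mul_inv, Matrix.det_one]
    have h3 : M.det = (M' : Matrix (Fin d) (Fin d) F).det := rfl
    rw [h3, h1, Matrix.det_mul, Matrix.det_mul, hD, hR, Matrix.det_submatrix_equiv_self, hdet, mul_one, h2]
  let S : SpecialLinearGroup (Fin d) F := ⟨M, hMdet⟩
  have hS : S ∈ Cfsg.SU d F q := hM'
  -- powers
  have hpow : ∀ k : ℕ, (((S ^ k : SpecialLinearGroup (Fin d) F)) : Matrix (Fin d) (Fin d) F) =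
      (y : Matrix (Fin d) (Fin d) F) * ((D ^ k : GL (Fin d) F) : Matrix (Fin d) (Fin d) F) *
        ((y⁻¹ : GL (Fin d) F) : Matrix (Fin d) (Fin d) F) := by
    intro k
    have h1 : (((S ^ k : SpecialLinearGroup (Fin d) F)) : Matrix (Fin d) (Fin d) F) =
        ((M' ^ k : GL (Fin d) F) : Matrix (Fin d) (Fin d) F) := by
      rw [Matrix.SpecialLinearGroup.coe_pow, Units.val_pow_eq_pow_val]
    rw [h1, hconj, conj_pow, Units.val_mul, Units.val_mul]
  have hDk : ∀ k : ℕ, ((D ^ k : GL (Fin d) F) : Matrix (Fin d) (Fin d) F) =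
      R ((C ^ k : (Matrix ι ι F)ˣ) : Matrix ι ι F) := by
    intro k
    rw [Units.val_pow_eq_pow_val, hD, ← map_pow, Units.val_pow_eq_pow_val]
  have hRs : ∀ c : F, R (Matrix.scalar ι c) = Matrix.scalar (Fin d) c := by
    intro c
    rw [hR, Matrix.scalar_apply, Matrix.scalar_apply, Matrix.submatrix_diagonal_equiv]
    rfl
  have hRinj : Function.Injective R := by
    intro M N h
    have h2 := congrArg (fun N : Matrix (Fin d) (Fin d) F => N.submatrix e.symm e.symm) h
    simp only [hR, Matrix.submatrix_submatrix, Equiv.self_comp_symm, Matrix.submatrix_id_id] at h2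
    exact h2
  have hyy : (y : Matrix (Fin d) (Fin d) F) * ((y⁻¹ : GL (Fin d) F) : Matrix (Fin d) (Fin d) F) = 1 :=
    Units.mul_inv y
  have hyy' : ((y⁻¹ : GL (Fin d) F) : Matrix (Fin d) (Fin d) F) * (y : Matrix (Fin d) (Fin d) F) = 1 :=
    Units.inv_mul y
  refine ⟨QuotientGroup.mk' _ ⟨S, hS⟩, fun k => ?_⟩
  rw [← map_pow, QuotientGroup.mk'_apply, QuotientGroup.eq_one_iff]
  constructor
  · intro h
    obtain ⟨c, hcn, hcq, hc⟩ := (SUBasic.mem_center_SU_iff hF hd _).1 h
    refine ⟨c, hRinj ?_⟩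
    have h1 : (((S ^ k : SpecialLinearGroup (Fin d) F)) : Matrix (Fin d) (Fin d) F) =
        Matrix.scalar (Fin d) c := by
      have := congrArg (fun z : Cfsg.SU d F q => ((z : SpecialLinearGroup (Fin d) F) : Matrix (Fin d) (Fin d) F)) hc
      exact this
    rw [← hDk, hRs]
    rw [hpow] at h1
    calc ((D ^ k : GL (Fin d) F) : Matrix (Fin d) (Fin d) F)
        = ((y⁻¹ : GL (Fin d) F) : Matrix (Fin d) (Fin d) F) * ((y : Matrix (Fin d) (Fin d) F) *
            ((D ^ k : GL (Fin d) F) : Matrix (Fin d) (Fin d) F) *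
            ((y⁻¹ : GL (Fin d) F) : Matrix (Fin d) (Fin d) F)) * (y : Matrix (Fin d) (Fin d) F) := by
          simp only [mul_assoc]
          rw [hyy', mul_one, ← mul_assoc, hyy', one_mul]
      _ = Matrix.scalar (Fin d) c := by
          rw [h1, mul_assoc,
            (Matrix.scalar_commute c (Commute.all c) (y : Matrix (Fin d) (Fin d) F)).eq, ← mul_assoc,
            hyy', one_mul]
  · rintro ⟨c, hc⟩
    have h1 : (((S ^ k : SpecialLinearGroup (Fin d) F)) : Matrix (Fin d) (Fin d) F) =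
        Matrix.scalar (Fin d) c := by
      rw [hpow, hDk, hc, hRs,
        ← (Matrix.scalar_commute c (Commute.all c) (y : Matrix (Fin d) (Fin d) F)).eq, mul_assoc, hyy, mul_one]
    rw [Subgroup.mem_center_iff]
    intro B
    apply Subtype.ext
    apply Subtype.ext
    change ((B : Matrix.SpecialLinearGroup (Fin d) F) : Matrix (Fin d) (Fin d) F) *
      ((S ^ k : SpecialLinearGroup (Fin d) F) : Matrix (Fin d) (Fin d) F) =
      ((S ^ k : SpecialLinearGroup (Fin d) F) : Matrix (Fin d) (Fin d) F) *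
      ((B : Matrix.SpecialLinearGroup (Fin d) F) : Matrix (Fin d) (Fin d) F)
    rw [h1]
    exact (Matrix.scalar_commute c (Commute.all c) _).eq.symm

/-- Scalars in a matrix preserving an invertible form. -/
theorem scalar_pow {ι : Type*} [Fintype ι] [DecidableEq ι] [Nonempty ι] (hF : Fintype.card F = q ^ 2) {c : F}
    (h : Uni q (Matrix.scalar ι c)) : c ^ (q + 1) = 1 := by
  have hq := two_le hF
  obtain ⟨x, hx, h1⟩ := h
  have h2 : st q (Matrix.scalar ι c) = Matrix.scalar ι (c ^ q) := by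
    ext i j
    rw [st_apply, Matrix.scalar_apply, Matrix.scalar_apply, Matrix.diagonal_apply, Matrix.diagonal_apply]
    by_cases hij : i = j
    · rw [if_pos hij, if_pos hij.symm]
    · rw [if_neg hij, if_neg (fun h => hij h.symm), zero_pow (by omega)]
  rw [h2, ← (Matrix.scalar_commute (c ^ q) (Commute.all _) x).eq.symm, mul_assoc, ← map_mul] at h1
  obtain ⟨x, rfl⟩ := hx
  have h3 : Matrix.scalar ι (c ^ q * c) = 1 := by
    have := congrArg (fun M => ((x⁻¹ : (Matrix ι ι F)ˣ) : Matrix ι ι F) * M) h1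
    simpa [← mul_assoc] using this
  rw [← map_one (Matrix.scalar ι), Matrix.scalar_inj] at h3
  rw [pow_succ]
  exact h3

/-- The determinant of a matrix preserving an invertible form. -/
theorem det_pow {ι : Type*} [Fintype ι] [DecidableEq ι] (hF : Fintype.card F = q ^ 2) {A : Matrix ι ι F}
    (h : Uni q A) : A.det ^ (q + 1) = 1 := by
  obtain ⟨x, hx, h1⟩ := h
  obtain ⟨σ, hσ⟩ := exists_powHom hF
  have h2 : (st q A).det = A.det ^ q := by
    have h3 : st q A = (A.map σ)ᵀ := by
      ext i j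
      rw [st_apply, Matrix.transpose_apply, Matrix.map_apply, hσ]
    rw [h3, Matrix.det_transpose, ← RingHom.mapMatrix_apply, ← RingHom.map_det, hσ]
  have h4 := congrArg Matrix.det h1
  rw [Matrix.det_mul, Matrix.det_mul, h2] at h4
  rw [Matrix.isUnit_iff_isUnit_det] at hx
  have h5 : x.det * (A.det ^ q * A.det) = x.det * 1 := by
    rw [mul_one]
    calc x.det * (A.det ^ q * A.det) = A.det ^ q * x.det * A.det := by ring
      _ = x.det := h4
  rw [pow_succ]
  exact mul_left_cancel₀ hx.ne_zero h5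

/-- A matrix of order prime to `q + 1` preserving an invertible form has determinant `1`. -/
theorem det_eq_one {ι : Type*} [Fintype ι] [DecidableEq ι] (hF : Fintype.card F = q ^ 2)
    {A : (Matrix ι ι F)ˣ} (h : Uni q (A : Matrix ι ι F)) {N : ℕ} (hN : A ^ N = 1) (hco : N.Coprime (q + 1)) :
    (A : Matrix ι ι F).det = 1 := by
  have h1 := det_pow hF h
  have h2 : (A : Matrix ι ι F).det ^ N = 1 := by
    rw [← Matrix.det_pow, ← Units.val_pow_eq_pow_val, hN, Units.val_one, Matrix.det_one]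
  have h3 := Nat.dvd_gcd (orderOf_dvd_of_pow_eq_one h2) (orderOf_dvd_of_pow_eq_one h1)
  rw [hco, Nat.dvd_one, orderOf_eq_one_iff] at h3
  exact h3

end Cfsg.Agent.H206.VanPSU
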