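import Cfsg.Agent.H206.VanPSU.Arith

/-!
# The row of `PSU_n(q)`, `n ≥ 4` (helper206)
-/

set_option autoImplicit false
set_option linter.unusedSectionVars false
open Cfsg

namespace Cfsg.Agent.H206.VanPSU

open Cfsg.Agent.H113.PSU.Levi Cfsg.Agent.H113.PSU.Facts Cfsg.Agent.H387.VO Cfsg.Agent.H620
open Cfsg.Agent.H665.NoPQ Cfsg.Agent.H103.UniBlock Cfsg.Agent.ClassicalGeometry.GUBasic

variable {F : Type} [Field F] [Fintype F] {q l n r : ℕ}

/-- Primes of order `e`, `2 ≤ e ≤ n - 2`. -/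
theorem twoVan_mid [hl : Fact l.Prime] [hr : Fact r.Prime] [CharP F r] (hF : Fintype.card F = q ^ 2) (hn : 4 ≤ n)
    (hl5 : 5 ≤ l) (hlr : l ≠ r) (hlq : ¬ l ∣ q) (hk : Kill (PSU n F q) r)
    (hsq : (Nat.card (PSU n F q)).factorization l ≠ 1) (h2 : 2 ≤ ee q l) (hen : ee q l + 2 ≤ n) :
    TwoVan l (PSU n F q) := by
  have hq : 2 ≤ q := two_le hF
  have hl1 : ¬ l ∣ q + 1 := fun h => by rw [← ee_eq_one_iff (by omega)] at h; omega
  have hco1 : Nat.Coprime l (q + 1) := (Nat.Prime.coprime_iff_not_dvd hl.out).2 hl1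
  obtain ⟨ι, _, _, _, hι, A, hA, hAo⟩ := exists_semisimple (F := F) (r := r) hF (e := ee q l) (by omega) (N := l)
    ((dvd_uu_iff (by omega) _).2 dvd_rfl)
  have hdet := det_eq_one hF hA (pow_orderOf_eq_one A) (by rw [hAo]; exact hco1)
  by_cases hcase : r = 2 → ee q l + 3 ≤ n
  · exact twoVan_of_block (F := F) hr.out hF (by omega) hk hl.out (by omega) hlr (ι := ι) (by omega)
      (by rw [hι]; exact hcase) hA hdet hAo
  push Not at hcase
  obtain ⟨hr2, hlt⟩ := hcase
  subst hr2
  have hn2 : n = ee q l + 2 := by omega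
  rcases Nat.lt_or_ge 2 (ee q l) with h3 | h3
  · -- an element of order `l ^ 2`
    have hsq2 : l ^ 2 ∣ uu q (ee q l) := by
      rw [card_fact_large hF (by omega) hlq h2 (by omega) (by omega)] at hsq
      have h4 : (uu q (ee q l)).factorization l ≠ 0 := by
        have := (hl.out.dvd_iff_one_le_factorization (uu_pos hq (by omega)).ne').1
          ((dvd_uu_iff (by omega) (ee q l)).2 dvd_rfl)
        omega
      exact (hl.out.pow_dvd_iff_le_factorization (uu_pos hq (by omega)).ne').2 (by omega)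
    obtain ⟨ι', _, _, _, hι', A', hA', hAo'⟩ := exists_semisimple (F := F) (r := 2) hF (e := ee q l) (by omega)
      (N := l ^ 2) hsq2
    have hdet' := det_eq_one hF hA' (pow_orderOf_eq_one A') (by rw [hAo']; exact Nat.Coprime.pow_left _ hco1)
    have hl2 : Nat.Coprime l 2 := (Nat.coprime_primes hl.out Nat.prime_two).2 (by omega)
    obtain ⟨x, hx⟩ := exists_of_coprime hF (d := n) (by omega) (ι := ι) (κ := Fin 2)
      (by rw [hι, Fintype.card_fin]; omega) hA (uni_tv hF) (by rw [hdet, det_tv, one_mul])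
      (by rw [hAo, orderOf_tv (F := F) (r := 2)]; exact hl2)
    obtain ⟨y, hy⟩ := exists_of_coprime hF (d := n) (by omega) (ι := ι') (κ := Fin 2)
      (by rw [hι', Fintype.card_fin]; omega) hA' (uni_tv hF) (by rw [hdet', det_tv, one_mul])
      (by rw [hAo', orderOf_tv (F := F) (r := 2)]; exact Nat.Coprime.pow_left _ hl2)
    rw [hAo, orderOf_tv (F := F) (r := 2)] at hx
    rw [hAo', orderOf_tv (F := F) (r := 2)] at hy
    refine H720.PV.twoVan_of_kill (p := l) (r := 2) hk (x := x) (y := y) ?_ ?_ ?_ ?_ ?_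
    · rw [hx]; exact Dvd.intro _ rfl
    · rw [hx]; exact Dvd.intro_left _ rfl
    · rw [hy]; exact ⟨l * 2, by ring⟩
    · rw [hy]; exact Dvd.intro_left _ rfl
    · rw [hx, hy]
      intro h
      have : l = l ^ 2 := Nat.eq_of_mul_eq_mul_right (by norm_num) h
      nlinarith
  · -- `PSU₄(q)`, `l ∣ q - 1`
    obtain rfl : n = 4 := by omega
    have he2 : ee q l = 2 := by omega
    have hl2 : l ∣ q - 1 := by
      have h4 : l ∣ uu q 2 := (dvd_uu_iff (by omega) 2).2 (by rw [he2])
      have h5 : uu q 2 = (q + 1) * (q - 1) := by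
        unfold uu
        have := Nat.sq_sub_sq q 1
        rw [one_pow] at this
        simpa using this
      rw [h5] at h4
      exact (Nat.Coprime.dvd_mul_left hco1).1 h4
    have hq2 : Even q := by
      obtain ⟨s, hs0, hs⟩ := FiniteField.card F 2
      rw [hF] at hs
      have h1 : Even (q ^ 2) := by rw [hs]; exact even_two.pow_of_ne_zero s.2.ne'
      exact (Nat.even_pow.1 h1).1
    have hodd : Odd (q + 1) := hq2.add_one
    obtain ⟨t, ht, htd⟩ := Nat.exists_prime_and_dvd (n := q + 1) (by omega)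
    have ht2 : Nat.Coprime 2 t := by
      rw [Nat.coprime_primes Nat.prime_two ht]
      rintro rfl
      exact (Nat.not_even_iff_odd.2 hodd) (even_iff_two_dvd.2 htd)
    have htl : Nat.Coprime l t := by
      rw [Nat.coprime_primes hl.out ht]
      rintro rfl
      exact hl1 htd
    have hqq : q - 1 ∣ q ^ 2 - 1 := by
      have := Nat.sq_sub_sq q 1
      rw [one_pow] at this
      exact ⟨q + 1, this.trans (mul_comm _ _)⟩
    obtain ⟨b, hb⟩ := exists_unit hF (hl2.trans hqq)
    have hb1 : b ^ (q - 1) = 1 := by rw [← orderOf_dvd_iff_pow_eq_one, hb]; exact hl2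
    obtain ⟨g, hg, hg1⟩ := exists_unit_succ hF htd
    obtain ⟨x, hx⟩ := exists_four_two (F := F) hF hl.out (by omega) hb1 hb (g := 1) (one_pow _) orderOf_one
      (Nat.coprime_one_right _) (Nat.coprime_one_right _)
    obtain ⟨y, hy⟩ := exists_four_two (F := F) hF hl.out (by omega) hb1 hb hg1 hg ht2 htl
    refine H720.PV.twoVan_of_kill (p := l) (r := 2) hk (x := x) (y := y) ?_ ?_ ?_ ?_ ?_
    · rw [hx]; exact ⟨2, by ring⟩
    · rw [hx]; exact ⟨l, by ring⟩
    · rw [hy]; exact ⟨2 * t, by ring⟩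
    · rw [hy]; exact ⟨l * t, by ring⟩
    · rw [hx, hy]
      intro h
      have := Nat.eq_of_mul_eq_mul_left (Nat.mul_pos two_pos hl.out.pos) h
      exact ht.one_lt.ne this

/-- Primes dividing `q + 1`. -/
theorem twoVan_one [hl : Fact l.Prime] [hr : Fact r.Prime] [CharP F r] (hF : Fintype.card F = q ^ 2) (hn : 4 ≤ n)
    (hl5 : 5 ≤ l) (hlr : l ≠ r) (hk : Kill (PSU n F q) r) (hd : l ∣ q + 1) :
    TwoVan l (PSU n F q) := by
  have hq : 2 ≤ q := two_le hF
  obtain ⟨z, hz, hz1⟩ := exists_unit_succ hF hd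
  let A : (Matrix (Fin 2) (Fin 2) F)ˣ := dg ![z, z⁻¹]
  have hA : Uni q (A : Matrix (Fin 2) (Fin 2) F) := uni_dg hF (fun i => by
    fin_cases i
    · exact hz1
    · change z⁻¹ ^ (q + 1) = 1
      rw [inv_pow, hz1, inv_one])
  have hdet : (A : Matrix (Fin 2) (Fin 2) F).det = 1 := by
    rw [det_dg]
    simp
  have hAo : orderOf A = l := by
    apply Nat.dvd_antisymm
    · apply orderOf_dvd_of_pow_eq_one
      have hzl : z ^ l = 1 := by rw [← hz]; exact pow_orderOf_eq_one z
      apply dg_pow_eq_one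
      intro i
      fin_cases i
      · exact hzl
      · change z⁻¹ ^ l = 1
        rw [inv_pow, hzl, inv_one]
    · have h1 := pow_orderOf_eq_one A
      have h2 : ((A ^ orderOf A : (Matrix (Fin 2) (Fin 2) F)ˣ) : Matrix (Fin 2) (Fin 2) F) = Matrix.scalar _ 1 := by
        rw [h1, Units.val_one, map_one]
      have h3 := dg_scalar h2 0
      simp only [Matrix.cons_val_zero] at h3
      rw [← hz]
      exact orderOf_dvd_of_pow_eq_one (Units.ext (by rw [Units.val_pow_eq_pow_val, h3, Units.val_one]))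
  by_cases hcase : r = 2 → 5 ≤ n
  · exact twoVan_of_block (F := F) hr.out hF (by omega) hk hl.out (by omega) hlr (ι := Fin 2)
      (by rw [Fintype.card_fin]; omega) (by rw [Fintype.card_fin]; exact hcase) hA hdet hAo
  push Not at hcase
  obtain ⟨hr2, hlt⟩ := hcase
  subst hr2
  obtain rfl : n = 4 := by omega
  have hl2 : Nat.Coprime l 2 := (Nat.coprime_primes hl.out Nat.prime_two).2 (by omega)
  obtain ⟨x, hx⟩ := exists_of_coprime hF (d := 4) (by omega) (ι := Fin 2) (κ := Fin 2)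
    (by rw [Fintype.card_fin]) hA (uni_tv hF) (by rw [hdet, det_tv, one_mul])
    (by rw [hAo, orderOf_tv (F := F) (r := 2)]; exact hl2)
  rw [hAo, orderOf_tv (F := F) (r := 2)] at hx
  obtain ⟨y, hy4, hyl⟩ := exists_four_one (F := F) hF hl.out (by omega) hz1 hz
  refine H720.PV.twoVan_of_kill (p := l) (r := 2) hk (x := x) (y := y) ?_ ?_ ?_ ?_ ?_
  · rw [hx]; exact Dvd.intro _ rfl
  · rw [hx]; exact Dvd.intro_left _ rfl
  · exact hyl
  · exact (by norm_num : 2 ∣ 4).trans hy4
  · intro h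
    rw [← h, hx] at hy4
    have h1 : 2 * 2 ∣ l * 2 := hy4
    have h3 : 2 ∣ l := Nat.dvd_of_mul_dvd_mul_right two_pos h1
    have h4 : 2 ∣ 1 := by
      have := Nat.dvd_gcd h3 (dvd_refl 2)
      rwa [hl2] at this
    omega

/-- **The row of `PSU_n(q)`, `n ≥ 4`**. -/
theorem row_four [hl : Fact l.Prime] [hr : Fact r.Prime] [CharP F r] (hF : Fintype.card F = q ^ 2) (hn : 4 ≤ n)
    (hl5 : 5 ≤ l) (hlr : l ≠ r) (hk : Kill (PSU n F q) r) (hd : l ∣ Nat.card (PSU n F q)) :
    Row l (PSU n F q) := by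
  by_cases hsq : (Nat.card (PSU n F q)).factorization l = 1
  · exact Or.inl hsq
  right; right
  have hq : 2 ≤ q := two_le hF
  have hlq : ¬ l ∣ q := by
    obtain ⟨s, hs0, hs⟩ := FiniteField.card F r
    intro h
    have h1 : l ∣ r ^ (s : ℕ) := by rw [← hs, hF]; exact h.trans (dvd_pow_self q two_ne_zero)
    exact hlr ((Nat.prime_dvd_prime_iff_eq hl.out hr.out).1 (hl.out.dvd_of_dvd_pow h1))
  have he := ee_le hF (n := n) (by omega) hlq hd
  have hpos := ee_pos (l := l) hlq
  by_cases h1 : ee q l = 1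
  · exact twoVan_one (F := F) hF hn hl5 hlr hk ((ee_eq_one_iff (by omega)).1 h1)
  by_cases h2 : ee q l + 2 ≤ n
  · exact twoVan_mid (F := F) hF hn hl5 hlr hlq hk hsq (by omega) h2
  have hl1 : ¬ l ∣ q + 1 := fun h => by rw [← ee_eq_one_iff (by omega)] at h; omega
  have hco1 : Nat.Coprime l (q + 1) := (Nat.Prime.coprime_iff_not_dvd hl.out).2 hl1
  have hdz := hasDZ_large (F := F) (l := l) hF hn hlq (by omega)
  have hsq2 : l ^ 2 ∣ uu q (ee q l) := by
    rw [card_fact_large hF (by omega) hlq (by omega) (by omega) (by omega)] at hsq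
    have h4 : (uu q (ee q l)).factorization l ≠ 0 := by
      have := (hl.out.dvd_iff_one_le_factorization (uu_pos hq (by omega)).ne').1
        ((dvd_uu_iff (by omega) (ee q l)).2 dvd_rfl)
      omega
    exact (hl.out.pow_dvd_iff_le_factorization (uu_pos hq (by omega)).ne').2 (by omega)
  obtain ⟨g, hg⟩ := exists_orderOf (F := F) (r := r) hF (n := n) (by omega) (by omega) he hsq2
    (Nat.Coprime.pow_left _ hco1)
  refine H720.PV.twoVan_of_hasDZ_orderOf hdz (x := g) (by rw [hg]; exact dvd_pow_self l two_ne_zero) ?_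
  rw [hg]
  intro h
  nlinarith

end Cfsg.Agent.H206.VanPSU
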