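import Cfsg.Agent.H664.R1.U3Deg
import Cfsg.Agent.H664.R1.U3Iso
import Cfsg.Agent.H713.Van

/-!
# Elements of `PSU_3(q)` commuting with no element of order `r` (helper206)
-/

set_option autoImplicit false
set_option linter.unusedSectionVars false
open Cfsg

namespace Cfsg.Agent.H206.VanPS

open Cfsg.Agent.H713

/-! ### Elements commuting with no element of order `r` -/

/-- No element of order `r` commutes with `z`. -/
def NC {G : Type*} [Group G] (r : ℕ) (z : G) : Prop := ∀ w : G, w * z = z * w → w ^ r = 1 → w = 1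

theorem NC.map {G H : Type*} [Group G] [Group H] {r : ℕ} {z : G} (h : NC r z) (e : G ≃* H) : NC r (e z) := by
  intro w hw hwr
  have h1 := h (e.symm w) (e.injective (by simpa using hw)) (by rw [← map_pow, hwr, map_one])
  rw [← e.apply_symm_apply w, h1, map_one]

theorem NC.conj {G : Type*} [Group G] {r : ℕ} {z : G} (h : NC r z) (x : G) : NC r (x⁻¹ * z * x) := by
  have := h.map (MulAut.conj x⁻¹)
  simpa using this

/-- An element normalising an `r`-group `U`, `|U| ≢ 1 mod l`, commutes with an element of order `r`. -/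
theorem not_nc {G : Type*} [Group G] [Finite G] {r l : ℕ} [hr : Fact r.Prime] [hl : Fact l.Prime] {U : Subgroup G} {m : ℕ}
    (hU : Nat.card U = r ^ m) (hl1 : ¬ r ^ m ≡ 1 [MOD l]) {z : G} (hz : z ^ l = 1)
    (hn : ∀ u ∈ U, z * u * z⁻¹ ∈ U) (h : NC r z) : False := by
  classical
  have : Fintype U := Fintype.ofFinite U
  let f : Function.End U := fun u => ⟨z * u * z⁻¹, hn u u.2⟩
  have hf : ∀ (k : ℕ) (u : U), (((f ^ k) u : U) : G) = z ^ k * u * (z ^ k)⁻¹ := by
    intro k
    induction k with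
    | zero => intro u; rw [pow_zero]; simp; rfl
    | succ k ih =>
      intro u
      rw [pow_succ']
      change z * ((f ^ k) u : U) * z⁻¹ = _
      rw [ih, pow_succ']
      group
  have hf1 : f ^ l ^ 1 = 1 := by
    funext u
    apply Subtype.ext
    rw [hf, pow_one, hz]
    simp
    rfl
  have h1 := Equiv.Perm.card_fixedPoints_modEq hf1
  have h2 : Fintype.card f.fixedPoints = 1 := by
    rw [Fintype.card_eq_one_iff]
    refine ⟨⟨1, Subtype.ext (by change z * ((1 : U) : G) * z⁻¹ = 1; simp)⟩, ?_⟩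
    rintro ⟨u, hu⟩
    apply Subtype.ext
    change u = 1
    by_contra hne
    have hu' : z * (u : G) * z⁻¹ = u := congrArg Subtype.val hu
    -- an element of order `r`
    have hpg : IsPGroup r U := IsPGroup.of_card hU
    obtain ⟨k, hk⟩ := (IsPGroup.iff_orderOf.1 hpg) u
    have hk0 : k ≠ 0 := by
      rintro rfl
      rw [pow_zero, orderOf_eq_one_iff] at hk
      exact hne hk
    have h3 : ((u : G) ^ r ^ (k - 1)) ^ r = 1 := by
      rw [← pow_mul, ← pow_succ, Nat.sub_add_cancel (by omega)]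
      have := pow_orderOf_eq_one u
      rw [hk] at this
      exact_mod_cast congrArg Subtype.val this
    have h4 : (u : G) ^ r ^ (k - 1) ≠ 1 := by
      intro h5
      have h6 : u ^ r ^ (k - 1) = 1 := Subtype.ext (by push_cast; exact h5)
      have h7 := orderOf_dvd_of_pow_eq_one h6
      rw [hk, Nat.pow_dvd_pow_iff_le_right hr.out.one_lt] at h7
      omega
    apply h4
    apply h _ _ h3
    have h8 : Commute z (u : G) := by
      have := mul_inv_eq_iff_eq_mul.1 hu'
      exact this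
    exact (h8.pow_right _).eq.symm
  rw [h2, ← Nat.card_eq_fintype_card, hU] at h1
  exact hl1 h1

section ps

open Cfsg.Agent.H664.R1 Cfsg.Agent.H664.R1.U3 Cfsg.Agent.LieRecognition.PSUThreeSylow
open Cfsg.Agent.LieClassical.HermBasic


variable {F : Type*} [Field F] [Fintype F] {q : ℕ} {σ : F →+* F} [hσ : Fact (∀ x, σ (σ x) = x)]

/-- An irreducible principal series character (the proof of `H664.R1.U3.exists_ps`). -/
theorem exists_ps_irr [Fintype (S σ)] (hF : Fintype.card F = q ^ 2) (hq : 3 ≤ q) (hs : ∀ x, σ x = x ^ q) :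
    ∃ f : (spS σ).B →* ℂˣ, IsIrrCharacter (S σ) ((spS σ).ps f) := by
  classical
  have : Finite (PG σ) := inferInstance
  have := Fintype.ofFinite (PG σ)
  -- a norm different from one
  obtain ⟨c, hc, hc0, hc1⟩ : ∃ c : F, c ^ q = c ∧ c ≠ 0 ∧ c ≠ 1 := by
    by_contra hcon
    push Not at hcon
    have h1 := card_fixed hF
    have h2 : Nat.card {x : F // x ^ q = x} ≤ 2 := by
      have : Function.Injective (fun x : {x : F // x ^ q = x} => decide (x.1 = 0)) := by
        rintro ⟨x, hx⟩ ⟨y, hy⟩ h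
        apply Subtype.ext
        by_cases h0 : x = 0
        · have h3 : y = 0 := by
            have : decide (x = 0) = decide (y = 0) := h
            simpa [h0] using this.symm
          show x = y
          rw [h0]; exact h3.symm
        · have h3 : y ≠ 0 := by
            have : decide (x = 0) = decide (y = 0) := h
            intro h4
            apply h0
            simpa [h4] using this
          show x = y
          rw [hcon x hx h0]
          exact (hcon y hy h3).symm
      have h4 := Nat.card_le_card_of_injective _ this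
      simpa using h4
    omega
  obtain ⟨t, ht, htn⟩ := exists_norm_eq_ne hF hc hc0
  rw [← hs] at htn
  obtain ⟨lam, -, hlam⟩ := OddOrderCharacters.PrimeTI.exists_hom_ne_one
    (G := Fˣ) ⟨⟨fun a b => mul_comm a b⟩⟩ ⊥
    (w := Units.mk0 c hc0) (by
      rw [Subgroup.mem_bot]
      intro h
      exact hc1 (congrArg Units.val h))
  obtain ⟨f, hfU, hf⟩ := exists_lin (σ := σ) lam
  have hrel := dgS_rel (σ := σ) ht
  have h0 : σ t ≠ 0 := (map_ne_zero σ).2 ht
  have hmem : pr σ (dg t (σ t / t) ht hrel) ∈ S σ := ⟨_, dgS_mem t ht hrel, rfl⟩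
  have hT : (⟨_, hmem⟩ : S σ) ∈ (spS σ).T := ⟨_, dg_mem _ _ _ _, rfl⟩
  exact ⟨f, (spS σ).isIrr_ps f ⟨⟨_, hmem⟩, hT, by
    have e1 := hf t (σ t / t) ht hrel hmem ((spS σ).TB hT)
    have e2 : ((spS σ).w⁻¹ * ⟨_, hmem⟩ * (spS σ).w : S σ) =
        ⟨pr σ (dg (σ t)⁻¹ (σ t / t) (inv_ne_zero h0) hrel), by
          rw [← w_conj_S t (σ t / t) ht hrel hmem]
          exact ((spS σ).w⁻¹ * ⟨_, hmem⟩ * (spS σ).w).2⟩ :=
      Subtype.ext (w_conj_S t (σ t / t) ht hrel hmem)
    have e3 : f ⟨(spS σ).w⁻¹ * ⟨_, hmem⟩ * (spS σ).w, (spS σ).TB ((spS σ).wT _ hT)⟩ =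
        lam (Units.mk0 ((σ t)⁻¹ * σ (σ t / t)) (mul_ne_zero (inv_ne_zero h0) ((map_ne_zero σ).2
          (left_ne_zero_of_mul_eq_one hrel)))) := by
      rw [← hf (σ t)⁻¹ (σ t / t) (inv_ne_zero h0) hrel (by
          rw [← w_conj_S t (σ t / t) ht hrel hmem]
          exact ((spS σ).w⁻¹ * ⟨_, hmem⟩ * (spS σ).w).2) ⟨_, (dg_mem _ _ _ _).1, rfl⟩]
      congr 1
      exact Subtype.ext e2
    rw [e1, e3]
    intro h
    apply hlam
    have h1 : Units.mk0 c hc0 = Units.mk0 (t * σ (σ t / t)) (mul_ne_zero ht ((map_ne_zero σ).2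
        (left_ne_zero_of_mul_eq_one hrel))) * (Units.mk0 ((σ t)⁻¹ * σ (σ t / t))
        (mul_ne_zero (inv_ne_zero h0) ((map_ne_zero σ).2 (left_ne_zero_of_mul_eq_one hrel))))⁻¹ := by
      apply Units.ext
      rw [Units.val_mul, Units.val_inv_eq_inv_val, Units.val_mk0, Units.val_mk0, Units.val_mk0,
        map_div₀, hσ.out, ← htn]
      field_simp
    rw [h1, map_mul, map_inv, h, mul_inv_cancel]⟩⟩

/-- Elements of prime order `l` dividing `q + 1` commuting with no element of order `r` are `VZ` elements. -/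
theorem vz_of_nc {r l : ℕ} [hr : Fact r.Prime] [hl : Fact l.Prime] [CharP F r] (hl2 : l ≠ 2)
    (hF : Fintype.card F = q ^ 2) (hq : 3 ≤ q) (hs : ∀ x, σ x = x ^ q) (hlq : l ∣ q + 1) {z : S σ}
    (hz : z ^ l = 1) (hnc : NC r z) : VZ (S σ) z := by
  classical
  have : Finite (PG σ) := inferInstance
  have : Fintype (S σ) := Fintype.ofFinite (S σ)
  obtain ⟨f, hf⟩ := exists_ps_irr (σ := σ) hF hq hs
  refine ⟨⟨_, hf⟩, fun α => ?_⟩
  change (spS σ).ps f (α z) = 0
  rw [(spS σ).ps_def]
  apply OddOrderCharacters.IndRes.indFun_eq_zero_of_forall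
  intro x hx
  have h1 : NC r (x⁻¹ * α z * x) := (hnc.map α).conj x
  have h2 : (x⁻¹ * α z * x) ^ l = 1 := by
    have : (x⁻¹ * α z * x) ^ l = x⁻¹ * (α z) ^ l * x := by
      have := conj_pow (i := l) (a := x⁻¹) (b := α z)
      rwa [inv_inv] at this
    rw [this, ← map_pow, hz, map_one, mul_one, inv_mul_cancel]
  obtain ⟨k, hk⟩ : ∃ k, q = r ^ k := by
    obtain ⟨s, hs0, hs⟩ := FiniteField.card F r
    rw [hF] at hs
    have h1 : q ∣ r ^ (s : ℕ) := by rw [← hs]; exact dvd_pow_self q two_ne_zero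
    obtain ⟨k, -, hk⟩ := (Nat.dvd_prime_pow hs0).1 h1
    exact ⟨k, hk⟩
  refine not_nc (U := (spS σ).U) (m := 3 * k) ?_ ?_ h2 (fun u hu => (spS σ).nU _ hx u hu) h1
  · rw [card_US hF hs, hk, ← pow_mul, mul_comm]
  · intro h
    have h3 : r ^ (3 * k) = q ^ 3 := by rw [hk, ← pow_mul, mul_comm]
    rw [h3, ← ZMod.natCast_eq_natCast_iff] at h
    push_cast at h
    have h4 : (q : ZMod l) = -1 := by
      have : ((q + 1 : ℕ) : ZMod l) = 0 := (ZMod.natCast_eq_zero_iff _ _).2 hlq
      push_cast at this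
      exact eq_neg_of_add_eq_zero_left this
    rw [h4] at h
    have h5 : ((2 : ℕ) : ZMod l) = 0 := by
      push_cast
      linear_combination -h
    rw [ZMod.natCast_eq_zero_iff] at h5
    exact hl2 ((Nat.prime_dvd_prime_iff_eq hl.out Nat.prime_two).1 h5)

end ps

end Cfsg.Agent.H206.VanPS
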