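import Cfsg.Agent.H206.VanPSU.Arith
import Cfsg.Agent.H206.VanPSU.PSChar

/-!
# The row of `PSU_3(q)` (helper206)
-/

set_option autoImplicit false
set_option linter.unusedSectionVars false
open Cfsg

namespace Cfsg.Agent.H206.VanPSU

open Cfsg.Agent.H113.PSU.Levi Cfsg.Agent.H387.VO Cfsg.Agent.H620 Cfsg.Agent.H713
open Cfsg.Agent.H665.NoPQ Cfsg.Agent.H103.UniBlock Cfsg.Agent.ClassicalGeometry.GUBasic
open Cfsg.Agent.H206.VanPS Cfsg.Agent.LieClassical

variable {F : Type} [Field F] [Fintype F] {q l r : ℕ}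

/-- The diagonal element `(1, ζ, ζ⁻¹)` commutes with no element of order `r`. -/
theorem exists_nc [hl : Fact l.Prime] [hr : Fact r.Prime] [CharP F r] (hF : Fintype.card F = q ^ 2)
    (hl5 : 5 ≤ l) (hd : l ∣ q + 1) : ∃ z : PSU 3 F q, orderOf z = l ∧ NC r z := by
  classical
  obtain ⟨ζ, hζ, hζ1⟩ := exists_unit_succ hF hd
  let d : Fin 3 → Fˣ := ![1, ζ, ζ⁻¹]
  have hζl : ζ ^ l = 1 := by rw [← hζ]; exact pow_orderOf_eq_one ζ
  have hζ0 : ζ ≠ 1 := by
    rintro rfl
    rw [orderOf_one] at hζ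
    omega
  have hζ2 : ζ ≠ ζ⁻¹ := by
    intro h
    have h1 : ζ ^ 2 = 1 := by
      rw [sq]
      nth_rw 1 [h]
      exact inv_mul_cancel ζ
    have h2 := orderOf_dvd_of_pow_eq_one h1
    rw [hζ] at h2
    have := Nat.le_of_dvd (by norm_num) h2
    omega
  have hdl : ∀ i, d i ^ l = 1 := by
    intro i
    fin_cases i
    · exact one_pow l
    · exact hζl
    · change ζ⁻¹ ^ l = 1
      rw [inv_pow, hζl, inv_one]
  have hdq : ∀ i, d i ^ (q + 1) = 1 := by
    intro i
    fin_cases i
    · exact one_pow _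
    · exact hζ1
    · change ζ⁻¹ ^ (q + 1) = 1
      rw [inv_pow, hζ1, inv_one]
  have hdinj : Function.Injective d := by
    intro i j h
    have h01 : (1 : Fˣ) ≠ ζ := hζ0.symm
    have h02 : (1 : Fˣ) ≠ ζ⁻¹ := fun h => hζ0 (by rw [eq_comm, inv_eq_one] at h; exact h)
    fin_cases i <;> fin_cases j <;> first
      | rfl
      | exact absurd h h01
      | exact absurd h h02
      | exact absurd h.symm h01
      | exact absurd h.symm h02
      | exact absurd h hζ2
      | exact absurd h.symm hζ2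
  let Z : Cfsg.SU 3 F q := SUBasic.suDiag q (fun i => (d i : F)) (by
    rw [Fin.prod_univ_three]
    change ((1 : Fˣ) : F) * (ζ : F) * ((ζ⁻¹ : Fˣ) : F) = 1
    rw [Units.val_one, one_mul, Units.mul_inv]) (fun i => by
      rw [← Units.val_pow_eq_pow_val, hdq, Units.val_one])
  have hZ : ((Z : Matrix.SpecialLinearGroup (Fin 3) F) : Matrix (Fin 3) (Fin 3) F) =
      Matrix.diagonal (fun i => (d i : F)) := rfl
  have hcen : ∀ A : Cfsg.SU 3 F q, (QuotientGroup.mk' (Subgroup.center (Cfsg.SU 3 F q)) A = 1) ↔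
      ∃ c : F, ((A : Matrix.SpecialLinearGroup (Fin 3) F) : Matrix (Fin 3) (Fin 3) F) =
        Matrix.diagonal (fun _ => c) := by
    intro A
    rw [QuotientGroup.mk'_apply, QuotientGroup.eq_one_iff]
    constructor
    · intro h
      obtain ⟨c, hcn, hcq, hc⟩ := (SUBasic.mem_center_SU_iff hF le_rfl A).1 h
      exact ⟨c, by rw [hc]; rfl⟩
    · rintro ⟨c, hc⟩
      rw [Subgroup.mem_center_iff]
      intro B
      apply Subtype.ext
      apply Subtype.ext
      change ((B : Matrix.SpecialLinearGroup (Fin 3) F) : Matrix (Fin 3) (Fin 3) F) *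
        ((A : Matrix.SpecialLinearGroup (Fin 3) F) : Matrix (Fin 3) (Fin 3) F) =
        ((A : Matrix.SpecialLinearGroup (Fin 3) F) : Matrix (Fin 3) (Fin 3) F) *
        ((B : Matrix.SpecialLinearGroup (Fin 3) F) : Matrix (Fin 3) (Fin 3) F)
      rw [hc]
      ext i j
      rw [Matrix.mul_diagonal, Matrix.diagonal_mul, mul_comm]
  refine ⟨QuotientGroup.mk' _ Z, ?_, ?_⟩
  · apply orderOf_eq_prime
    · rw [← map_pow]
      have : Z ^ l = 1 := by
        apply Subtype.ext
        apply Subtype.ext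
        change ((Z : Matrix.SpecialLinearGroup (Fin 3) F) ^ l : Matrix.SpecialLinearGroup (Fin 3) F).1 = 1
        rw [Matrix.SpecialLinearGroup.coe_pow, hZ, Matrix.diagonal_pow, ← Matrix.diagonal_one]
        congr 1
        funext i
        rw [Pi.pow_apply, ← Units.val_pow_eq_pow_val, hdl, Units.val_one]
      rw [this, map_one]
    · intro h
      obtain ⟨c, hc⟩ := (hcen Z).1 h
      rw [hZ] at hc
      have h0 := congrFun (congrFun hc 0) 0
      have h1 := congrFun (congrFun hc 1) 1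
      rw [Matrix.diagonal_apply_eq, Matrix.diagonal_apply_eq] at h0 h1
      have : d 0 = d 1 := Units.ext (h0.trans h1.symm)
      exact absurd (hdinj this) (by decide)
  · intro w hw hwr
    obtain ⟨W, rfl⟩ := QuotientGroup.mk'_surjective _ w
    -- the commutator is a scalar
    have hcomm : QuotientGroup.mk' (Subgroup.center (Cfsg.SU 3 F q)) ((Z * W)⁻¹ * (W * Z)) = 1 := by
      rw [map_mul, map_inv, map_mul, map_mul, hw, inv_mul_cancel]
    obtain ⟨c, hc⟩ := (hcen _).1 hcomm
    have hmul : ((W : Matrix.SpecialLinearGroup (Fin 3) F) : Matrix (Fin 3) (Fin 3) F) *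
        Matrix.diagonal (fun i => (d i : F)) = Matrix.diagonal (fun i => (d i : F)) *
        ((W : Matrix.SpecialLinearGroup (Fin 3) F) : Matrix (Fin 3) (Fin 3) F) * Matrix.diagonal (fun _ => c) := by
      have h1 : W * Z = Z * W * ((Z * W)⁻¹ * (W * Z)) := by group
      have h2 := congrArg (fun A : Cfsg.SU 3 F q =>
        ((A : Matrix.SpecialLinearGroup (Fin 3) F) : Matrix (Fin 3) (Fin 3) F)) h1
      have h3 : (((Z * W * ((Z * W)⁻¹ * (W * Z)) : Cfsg.SU 3 F q) : Matrix.SpecialLinearGroup (Fin 3) F) :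
          Matrix (Fin 3) (Fin 3) F) = Matrix.diagonal (fun i => (d i : F)) *
        ((W : Matrix.SpecialLinearGroup (Fin 3) F) : Matrix (Fin 3) (Fin 3) F) * Matrix.diagonal (fun _ => c) := by
        rw [← hc]; rfl
      exact h2.trans h3
    set M := ((W : Matrix.SpecialLinearGroup (Fin 3) F) : Matrix (Fin 3) (Fin 3) F) with hM
    have hent : ∀ i j, M i j ≠ 0 → (d j : F) = c * d i := by
      intro i j hij
      have h1 := congrFun (congrFun hmul i) j
      rw [Matrix.mul_diagonal, Matrix.mul_diagonal, Matrix.diagonal_mul] at h1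
      apply mul_left_cancel₀ hij
      rw [h1]; ring
    have hdet : M.det = 1 := (W : Matrix.SpecialLinearGroup (Fin 3) F).2
    have hc1 : c = 1 := by
      obtain ⟨j, hj⟩ : ∃ j, M 0 j ≠ 0 := by
        by_contra hcon
        push Not at hcon
        have : M.det = 0 := Matrix.det_eq_zero_of_row_eq_zero 0 hcon
        rw [this] at hdet
        exact zero_ne_one hdet
      have h1 := hent 0 j hj
      have hcl : c ^ l = 1 := by
        have h2 : (d j : F) ^ l = (c * d 0) ^ l := by rw [h1]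
        rw [mul_pow, ← Units.val_pow_eq_pow_val, ← Units.val_pow_eq_pow_val, hdl, hdl, Units.val_one, mul_one] at h2
        exact h2.symm
      -- the determinant of the commutator
      have hc3 : c ^ 3 = 1 := by
        have h2 : (((Z * W)⁻¹ * (W * Z) : Cfsg.SU 3 F q) : Matrix.SpecialLinearGroup (Fin 3) F).1.det = 1 :=
          (((Z * W)⁻¹ * (W * Z) : Cfsg.SU 3 F q) : Matrix.SpecialLinearGroup (Fin 3) F).2
        have h3 : (((Z * W)⁻¹ * (W * Z) : Cfsg.SU 3 F q) : Matrix.SpecialLinearGroup (Fin 3) F).1 =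
          Matrix.diagonal (fun _ => c) := hc
        rw [h3, Matrix.det_diagonal, Finset.prod_const, Finset.card_univ, Fintype.card_fin] at h2
        exact h2
      have h4 := Nat.dvd_gcd (orderOf_dvd_of_pow_eq_one hcl) (orderOf_dvd_of_pow_eq_one hc3)
      have h5 : Nat.Coprime l 3 := (Nat.coprime_primes hl.out Nat.prime_three).2 (by omega)
      rw [h5, Nat.dvd_one, orderOf_eq_one_iff] at h4
      exact h4
    have hdiag : ∀ i j, i ≠ j → M i j = 0 := by
      intro i j hij
      by_contra h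
      have h1 := hent i j h
      rw [hc1, one_mul] at h1
      exact hij (hdinj (Units.ext h1.symm))
    have hMd : M = Matrix.diagonal (fun i => M i i) := by
      ext i j
      by_cases hij : i = j
      · subst hij; rw [Matrix.diagonal_apply_eq]
      · rw [Matrix.diagonal_apply_ne _ hij, hdiag i j hij]
    rw [← map_pow] at hwr
    obtain ⟨m, hm⟩ := (hcen _).1 hwr
    have hm' : M ^ r = Matrix.diagonal (fun _ => m) := by
      rw [← hm]
      rw [hM, ← Matrix.SpecialLinearGroup.coe_pow]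
      rfl
    have hMi : ∀ i, M i i ^ r = m := by
      intro i
      rw [hMd, Matrix.diagonal_pow] at hm'
      have := congrFun (congrFun hm' i) i
      rw [Matrix.diagonal_apply_eq, Matrix.diagonal_apply_eq] at this
      exact this
    rw [hcen]
    refine ⟨M 0 0, ?_⟩
    rw [← hM]
    conv_lhs => rw [hMd]
    congr 1
    funext i
    apply frobenius_inj F r
    rw [frobenius_def, frobenius_def, hMi, hMi]


/-- An element of order divisible by `l` and `r`. -/
theorem exists_three_one [hl : Fact l.Prime] [CharP F r] (hF : Fintype.card F = q ^ 2)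
    (hl5 : 5 ≤ l) (hd : l ∣ q + 1) : ∃ x : PSU 3 F q, r ∣ orderOf x ∧ l ∣ orderOf x := by
  obtain ⟨z, hz, hz1⟩ := exists_unit_succ (F := F) hF hd
  let A : (Matrix (Fin 2) (Fin 2) F)ˣ := sm z (tv F)
  let B : (Matrix (Fin 1) (Fin 1) F)ˣ := dg fun _ => z⁻¹ ^ 2
  obtain ⟨x, hx⟩ := exists_psu hF (d := 3) (by norm_num) (by simp) (bs A B) (uni_bs hF (uni_sm hz1 (uni_tv hF))
    (uni_dg hF fun i => by rw [← pow_mul, mul_comm, pow_mul, inv_pow, hz1, inv_one, one_pow])) (by
    rw [det_bs, det_sm, det_tv, det_dg, Fintype.card_fin]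
    simp)
  refine ⟨x, ?_⟩
  obtain ⟨c, hc⟩ := (hx (orderOf x)).1 (pow_orderOf_eq_one x)
  rw [bs_pow, bs_scalar_iff] at hc
  obtain ⟨h1, h2⟩ := hc
  set k := orderOf x with hk
  rw [coe_sm_pow] at h1
  obtain ⟨h3, h4⟩ := tv_scalar (r := r) (F := F) (Units.ne_zero _) h1
  refine ⟨h3, ?_⟩
  have h6 := dg_scalar h2 0
  have h8 : (z⁻¹ ^ 2) ^ k = z ^ k := Units.ext (by
    rw [Units.val_pow_eq_pow_val z, h4, ← h6, Units.val_pow_eq_pow_val])
  have h9 : z ^ (3 * k) = 1 := by
    have : z ^ (3 * k) = z ^ k * (z ^ 2) ^ k := by rw [← pow_mul, ← pow_add]; congr 1; ring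
    rw [this, ← h8, ← mul_pow, ← mul_pow, inv_mul_cancel, one_pow, one_pow]
  have h10 := orderOf_dvd_of_pow_eq_one h9
  rw [hz] at h10
  have hco : Nat.Coprime l 3 := (Nat.coprime_primes hl.out Nat.prime_three).2 (by omega)
  exact (Nat.Coprime.dvd_mul_left hco).1 h10

/-- Primes dividing `q + 1`. -/
theorem twoVan_three_one [hl : Fact l.Prime] [hr : Fact r.Prime] [CharP F r] (hF : Fintype.card F = q ^ 2)
    (hl5 : 5 ≤ l) (hlr : l ≠ r) (hk : Kill (PSU 3 F q) r) (hd : l ∣ q + 1) : TwoVan l (PSU 3 F q) := by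
  have hq3 : 3 ≤ q := by
    have := Nat.le_of_dvd (by omega) hd
    omega
  obtain ⟨x, hxr, hxl⟩ := exists_three_one (F := F) (r := r) hF hl5 hd
  obtain ⟨z, hz, hnc⟩ := exists_nc (F := F) (r := r) hF hl5 hd
  obtain ⟨σ, hσ, hs, ⟨e⟩⟩ := H664.R1.U3.exists_iso hF
  have hvz : VZ (PSU 3 F q) z := by
    have h1 := vz_of_nc (σ := σ) (r := r) (l := l) (by omega) hF hq3 hs hd (z := e z) (by
      rw [← map_pow, ← hz, pow_orderOf_eq_one, map_one]) (hnc.map e)
    have h2 := VZ.mulEquiv e.symm h1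
    rwa [MulEquiv.symm_apply_apply] at h2
  refine TwoVan.of_order hxl (by rw [hz]) (hk.vz hxr) hvz ?_
  rw [hz]
  intro h
  rw [h] at hxr
  exact hlr ((Nat.prime_dvd_prime_iff_eq hr.out hl.out).1 hxr).symm

/-- **The row of `PSU_3(q)`**. -/
theorem row_three [hl : Fact l.Prime] [hr : Fact r.Prime] [CharP F r] (hF : Fintype.card F = q ^ 2) (hq3 : 3 ≤ q)
    (hl5 : 5 ≤ l) (hlr : l ≠ r) (hk : Kill (PSU 3 F q) r) (hd : l ∣ Nat.card (PSU 3 F q)) :
    Row l (PSU 3 F q) := by
  by_cases hsq : (Nat.card (PSU 3 F q)).factorization l = 1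
  · exact Or.inl hsq
  right; right
  have hlq : ¬ l ∣ q := by
    obtain ⟨s, hs0, hs⟩ := FiniteField.card F r
    intro h
    have h1 : l ∣ r ^ (s : ℕ) := by rw [← hs, hF]; exact h.trans (dvd_pow_self q two_ne_zero)
    exact hlr ((Nat.prime_dvd_prime_iff_eq hl.out hr.out).1 (hl.out.dvd_of_dvd_pow h1))
  have he := ee_le hF (n := 3) (by omega) hlq hd
  have hpos := ee_pos (l := l) hlq
  by_cases h1 : ee q l = 1
  · exact twoVan_three_one (F := F) hF hl5 hlr hk ((ee_eq_one_iff (by omega)).1 h1)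
  have hl1 : ¬ l ∣ q + 1 := fun h => by rw [← ee_eq_one_iff (by omega)] at h; omega
  have hco1 : Nat.Coprime l (q + 1) := (Nat.Prime.coprime_iff_not_dvd hl.out).2 hl1
  have hfact := card_fact_large hF (n := 3) (by omega) hlq (by omega) (by omega) (by omega)
  -- the degree
  have hdz : HasDZ l (PSU 3 F q) := by
    have key : ∀ D ∈ charDegrees (PSU 3 F q), uu q (ee q l) ∣ (q + 1) * D → HasDZ l (PSU 3 F q) := by
      rintro D hD hdvd
      obtain ⟨χ, hχ, h2⟩ := H681.DegBasic.mem_charDegrees.1 hD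
      refine H720.PV.hasDZ_of_degree hχ h2 ?_
      rw [hfact]
      exact Nat.Coprime.dvd_of_dvd_mul_left (Nat.Coprime.pow_left _ hco1) ((Nat.ordProj_dvd _ _).trans hdvd)
    have hee : ee q l = 2 ∨ ee q l = 3 := by omega
    rcases hee with h2 | h3
    · obtain ⟨σ, hσ, hs, ⟨e⟩⟩ := H664.R1.U3.exists_iso hF
      obtain ⟨k, hk'⟩ : ∃ k, q = r ^ k := by
        obtain ⟨s, hs0, hs⟩ := FiniteField.card F r
        rw [hF] at hs
        have h1 : q ∣ r ^ (s : ℕ) := by rw [← hs]; exact dvd_pow_self q two_ne_zero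
        obtain ⟨k, -, hk⟩ := (Nat.dvd_prime_pow hs0).1 h1
        exact ⟨k, hk⟩
      obtain ⟨D, hD, hdvd⟩ := H664.R1.U3.exists_degree (σ := σ) hF hq3 hs hr.out hk'
      refine key D (H664.R1.PSLTwo.mem_of_equiv e hD) ?_
      rw [h2]
      have h5 : uu q 2 = (q + 1) * (q - 1) := by
        unfold uu
        have := Nat.sq_sub_sq q 1
        rw [one_pow] at this
        simpa using this
      rw [h5]
      exact Nat.mul_dvd_mul_left _ ((Dvd.intro_left _ rfl).trans hdvd)
    · obtain ⟨hD, -⟩ := H664.R1.U3.degrees_red hF hq3 (MulEquiv.refl (PSU 3 F q))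
      refine key _ hD ?_
      rw [h3]
      have h5 : uu q 3 = (q + 1) * (q ^ 2 - q + 1) := by
        unfold uu
        rw [if_neg (by decide)]
        have h6 : q ≤ q ^ 2 := by nlinarith
        zify [h6]
        ring
      rw [h5]
  have hsq2 : l ^ 2 ∣ uu q (ee q l) := by
    rw [hfact] at hsq
    have h4 : (uu q (ee q l)).factorization l ≠ 0 := by
      have := (hl.out.dvd_iff_one_le_factorization (uu_pos (by omega) (by omega)).ne').1
        ((dvd_uu_iff (by omega) (ee q l)).2 dvd_rfl)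
      omega
    exact (hl.out.pow_dvd_iff_le_factorization (uu_pos (by omega) (by omega)).ne').2 (by omega)
  obtain ⟨g, hg⟩ := exists_orderOf (F := F) (r := r) hF (n := 3) (by omega) (by omega) he hsq2
    (Nat.Coprime.pow_left _ hco1)
  refine H720.PV.twoVan_of_hasDZ_orderOf hdz (x := g) (by rw [hg]; exact dvd_pow_self l two_ne_zero) ?_
  rw [hg]
  intro h
  nlinarith

end Cfsg.Agent.H206.VanPSU
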