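import Cfsg.Agent.H206.VanPSU.Four
import Cfsg.Agent.H206.VanPSU.Three
import Cfsg.Agent.H620.RowClass

/-!
# The row of the unitary groups (helper206, task 3059, S4987)
-/

set_option autoImplicit false
open Cfsg

namespace Cfsg.Agent.H206.VanPSU

universe u

/-- **The row of `PSU_n(q)`**. -/
theorem row {K : Type u} [Group K] [Finite K] [IsSimpleGroup K] {r : ℕ} (hr : r.Prime) (h : IsPSUChar r K)
    {p : ℕ} [hp : Fact p.Prime] (hp5 : 5 ≤ p) (hpr : p ≠ r) (hd : p ∣ Nat.card K) : H387.VO.Row p K := by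
  have hk : H620.Kill K r := H620.RowClass.kill_of_lie hr (Or.inr (Or.inr (Or.inl h)))
  obtain ⟨F, _, _, hchar, n, q, hF, hn, hnq, ⟨e⟩⟩ := h
  have : Fact r.Prime := ⟨hr⟩
  have hk' := hk.mulEquiv e
  have hd' : p ∣ Nat.card (PSU n F q) := by rwa [← Nat.card_congr e.toEquiv]
  refine H387.VO.Row.mulEquiv ?_ e.symm
  rcases Nat.lt_or_ge n 4 with h4 | h4
  · obtain rfl : n = 3 := by omega
    have hq2 : 2 ≤ q := Cfsg.Agent.ClassicalGeometry.GUBasic.two_le hF
    exact row_three (F := F) hF (by omega) hp5 hpr hk' hd'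
  · exact row_four (F := F) hF h4 hp5 hpr hk' hd'

end Cfsg.Agent.H206.VanPSU
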