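import Cfsg.Agent.H206.VanPSU.Blocks
import Cfsg.Agent.H720.PV.Tools

/-!
# Pairs of vanishing elements of `PSU_n(q)` from the Steinberg character (helper206)
-/

set_option autoImplicit false
set_option linter.unusedSectionVars false
open Cfsg Matrix

namespace Cfsg.Agent.H206.VanPSU

open Cfsg.Agent.H186 Cfsg.Agent.ClassicalGeometry.GUBasic Cfsg.Agent.H103.PGUUpper Cfsg.Agent.H103.UniBlock
open Cfsg.Agent.LieClassical Cfsg.Agent.H387.VO Cfsg.Agent.H620

variable {F : Type*} [Field F] [Fintype F] {q : ℕ}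

section sm

variable {ι : Type*} [Fintype ι] [DecidableEq ι]

/-- A scalar multiple of a unit. -/
def sm (c : Fˣ) (A : (Matrix ι ι F)ˣ) : (Matrix ι ι F)ˣ :=
  ⟨(c : F) • (A : Matrix ι ι F), ((c⁻¹ : Fˣ) : F) • ((A⁻¹ : (Matrix ι ι F)ˣ) : Matrix ι ι F), by
    rw [Matrix.smul_mul, Matrix.mul_smul, Units.mul_inv, smul_smul, Units.mul_inv, one_smul], by
    rw [Matrix.smul_mul, Matrix.mul_smul, Units.inv_mul, smul_smul, Units.inv_mul, one_smul]⟩

theorem coe_sm (c : Fˣ) (A : (Matrix ι ι F)ˣ) : ((sm c A : (Matrix ι ι F)ˣ) : Matrix ι ι F) =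
    (c : F) • (A : Matrix ι ι F) := rfl

theorem coe_sm_pow (c : Fˣ) (A : (Matrix ι ι F)ˣ) (k : ℕ) : ((sm c A ^ k : (Matrix ι ι F)ˣ) : Matrix ι ι F) =
    (c : F) ^ k • ((A ^ k : (Matrix ι ι F)ˣ) : Matrix ι ι F) := by
  rw [Units.val_pow_eq_pow_val, coe_sm, smul_pow, Units.val_pow_eq_pow_val]

theorem uni_sm {c : Fˣ} (hc : c ^ (q + 1) = 1) {A : (Matrix ι ι F)ˣ} (hA : Uni q (A : Matrix ι ι F)) :
    Uni q ((sm c A : (Matrix ι ι F)ˣ) : Matrix ι ι F) := by
  rw [coe_sm]
  exact uni_smul hA (by rw [← Units.val_pow_eq_pow_val, hc, Units.val_one])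

theorem det_sm (c : Fˣ) (A : (Matrix ι ι F)ˣ) : ((sm c A : (Matrix ι ι F)ˣ) : Matrix ι ι F).det =
    (c : F) ^ Fintype.card ι * (A : Matrix ι ι F).det := by
  rw [coe_sm, Matrix.det_smul]

/-- A diagonal unit. -/
def dg (c : ι → Fˣ) : (Matrix ι ι F)ˣ :=
  ⟨Matrix.diagonal (fun i => (c i : F)), Matrix.diagonal (fun i => ((c i)⁻¹ : Fˣ)), by
    rw [Matrix.diagonal_mul_diagonal]; simp, by rw [Matrix.diagonal_mul_diagonal]; simp⟩

theorem coe_dg (c : ι → Fˣ) : ((dg c : (Matrix ι ι F)ˣ) : Matrix ι ι F) = Matrix.diagonal (fun i => (c i : F)) := rfl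

theorem dg_pow (c : ι → Fˣ) (k : ℕ) : (dg c) ^ k = dg (fun i => c i ^ k) := by
  apply Units.ext
  rw [Units.val_pow_eq_pow_val, coe_dg, Matrix.diagonal_pow, coe_dg]
  congr 1

theorem det_dg (c : ι → Fˣ) : ((dg c : (Matrix ι ι F)ˣ) : Matrix ι ι F).det = ∏ i, (c i : F) := by
  rw [coe_dg, Matrix.det_diagonal]

theorem uni_dg (hF : Fintype.card F = q ^ 2) {c : ι → Fˣ} (hc : ∀ i, c i ^ (q + 1) = 1) :
    Uni q ((dg c : (Matrix ι ι F)ˣ) : Matrix ι ι F) := by
  rw [coe_dg]
  exact uni_diag hF fun i => by rw [← Units.val_pow_eq_pow_val, hc, Units.val_one]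

theorem dg_scalar {c : ι → Fˣ} {k : ℕ} {a : F} (h : ((dg c ^ k : (Matrix ι ι F)ˣ) : Matrix ι ι F) = Matrix.scalar ι a)
    (i : ι) : (c i : F) ^ k = a := by
  rw [dg_pow, coe_dg, Matrix.scalar_apply] at h
  have := congrFun (congrFun h i) i
  rw [Matrix.diagonal_apply_eq, Matrix.diagonal_apply_eq, Units.val_pow_eq_pow_val] at this
  exact this

theorem dg_pow_eq_one {c : ι → Fˣ} {k : ℕ} (h : ∀ i, c i ^ k = 1) : dg c ^ k = 1 := by
  apply Units.ext
  rw [dg_pow, coe_dg, Units.val_one, ← Matrix.diagonal_one]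
  congr 1
  funext i
  rw [h i, Units.val_one]

end sm

/-- Two unipotent-by-sign blocks of size `f ≥ 2` (`f ≥ 3` in characteristic `2`). -/
theorem exists_two_unip {r : ℕ} (hr : r.Prime) [CharP F r] (hF : Fintype.card F = q ^ 2) {f : ℕ} (hf : 2 ≤ f)
    (h3 : r = 2 → 3 ≤ f) : ∃ (κ : Type) (_ : Fintype κ) (_ : DecidableEq κ) (_ : Nonempty κ)
    (_ : Fintype.card κ = f) (B₁ B₂ : (Matrix κ κ F)ˣ) (N : ℕ),
    Uni q (B₁ : Matrix κ κ F) ∧ Uni q (B₂ : Matrix κ κ F) ∧ (B₁ : Matrix κ κ F).det = 1 ∧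
    (B₂ : Matrix κ κ F).det = 1 ∧ orderOf B₁ = r ∧ orderOf B₂ = N * r ∧ (N = 2) := by
  have hq := two_le hF
  by_cases hr2 : r = 2
  · subst hr2
    have hf3 := h3 rfl
    obtain ⟨b, hb⟩ := exists_trace_one (F := F) hF
    -- the transvection on a space of dimension three
    have e1 : orderOf (bs (tv F) (1 : (Matrix (Fin 1) (Fin 1) F)ˣ)) = 2 := by
      rw [bs_orderOf, orderOf_tv (F := F) (r := 2), orderOf_one, Nat.lcm_one_right]
    let ee : Fin 3 ≃ Fin 2 ⊕ Fin 1 := (finSumFinEquiv (m := 2) (n := 1)).symm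
    let R : Matrix (Fin 2 ⊕ Fin 1) (Fin 2 ⊕ Fin 1) F →* Matrix (Fin 3) (Fin 3) F :=
      { toFun := fun M => M.submatrix ee ee
        map_one' := Matrix.submatrix_one_equiv ee
        map_mul' := fun M N => (Matrix.submatrix_mul_equiv M N ee ee ee).symm }
    have hRinj : Function.Injective R := by
      intro M N h
      have h2 := congrArg (fun N : Matrix (Fin 3) (Fin 3) F => N.submatrix ee.symm ee.symm) h
      simp only [R, MonoidHom.coe_mk, OneHom.coe_mk, Matrix.submatrix_submatrix, Equiv.self_comp_symm,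
        Matrix.submatrix_id_id] at h2
      exact h2
    refine ⟨Fin 3 ⊕ Fin (f - 3), inferInstance, inferInstance, ⟨Sum.inl 0⟩, ?_,
      bs (Units.map R (bs (tv F) 1)) 1, bs (qu F b) 1, 2, ?_, ?_, ?_, ?_, ?_, ?_, rfl⟩
    · rw [Fintype.card_sum, Fintype.card_fin, Fintype.card_fin]; omega
    · refine uni_bs hF ?_ (uni_one hF)
      exact uni_submatrix ee (uni_bs hF (uni_tv hF) (uni_one hF))
    · exact uni_bs hF (uni_qu hF hb) (uni_one hF)
    · rw [det_bs, Units.val_one, Matrix.det_one, mul_one]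
      change (Matrix.submatrix _ ee ee).det = 1
      rw [Matrix.det_submatrix_equiv_self, det_bs, det_tv, Units.val_one, Matrix.det_one, mul_one]
    · rw [det_bs, det_qu, Units.val_one, Matrix.det_one, mul_one]
    · rw [bs_orderOf, orderOf_one, Nat.lcm_one_right, orderOf_injective _ (Units.map_injective hRinj), e1]
    · rw [bs_orderOf, orderOf_one, Nat.lcm_one_right, orderOf_qu]
  · refine ⟨Fin 2 ⊕ Fin (f - 2), inferInstance, inferInstance, ⟨Sum.inl 0⟩, ?_,
      bs (tv F) 1, bs (sm (-1) (tv F)) 1, 2, ?_, ?_, ?_, ?_, ?_, ?_, rfl⟩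
    · rw [Fintype.card_sum, Fintype.card_fin, Fintype.card_fin]; omega
    · exact uni_bs hF (uni_tv hF) (uni_one hF)
    · refine uni_bs hF (uni_sm ?_ (uni_tv hF)) (uni_one hF)
      have hodd : Odd q := by
        obtain ⟨s, hs0, hs⟩ := FiniteField.card F r
        rw [hF] at hs
        have h1 : Odd (q ^ 2) := by rw [hs]; exact (hr.odd_of_ne_two hr2).pow
        rw [Nat.odd_pow_iff two_ne_zero] at h1
        exact h1
      exact hodd.add_one.neg_one_pow
    · rw [det_bs, det_tv, Units.val_one, Matrix.det_one, mul_one]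
    · rw [det_bs, det_sm, det_tv, Units.val_one, Matrix.det_one, Fintype.card_fin]
      simp
    · rw [bs_orderOf, orderOf_one, Nat.lcm_one_right, orderOf_tv (F := F) (r := r)]
    · rw [bs_orderOf, orderOf_one, Nat.lcm_one_right]
      have hne : (-1 : F) ≠ 1 := by
        intro h
        apply hr2
        have h2 : ((2 : ℕ) : F) = 0 := by
          have : (1 : F) + 1 = 0 := by nth_rw 1 [← h]; ring
          push_cast; rw [← this]; norm_num
        have := (CharP.cast_eq_zero_iff F r 2).1 h2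
        exact (Nat.prime_dvd_prime_iff_eq hr Nat.prime_two).1 this
      have hone : ∀ k : ℕ, sm (-1) (tv F) ^ k = 1 ↔ 2 * r ∣ k := by
        intro k
        have hco : Nat.Coprime 2 r := (Nat.coprime_primes Nat.prime_two hr).2 (fun h => hr2 h.symm)
        constructor
        · intro h
          have h1 := congrArg Units.val h
          rw [coe_sm_pow, Units.val_one, ← map_one (Matrix.scalar (Fin 2))] at h1
          obtain ⟨h2, h3⟩ := tv_scalar (r := r) (F := F) (Units.ne_zero (-1 : Fˣ)) h1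
          refine hco.mul_dvd_of_dvd_of_dvd ?_ h2
          rcases Nat.even_or_odd k with h4 | h4
          · exact h4.two_dvd
          · exfalso
            apply hne
            rw [Units.val_neg, Units.val_one, h4.neg_one_pow] at h3
            exact h3
        · rintro ⟨m, rfl⟩
          apply Units.ext
          rw [coe_sm_pow, tv_pow, Units.val_neg, Units.val_one, Units.val_one, mul_assoc, pow_mul,
            neg_one_sq, one_pow, one_smul]
          push_cast
          rw [CharP.cast_eq_zero F r, zero_mul, mul_zero, Matrix.one_fin_two]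
      apply Nat.dvd_antisymm
      · exact orderOf_dvd_of_pow_eq_one ((hone _).2 dvd_rfl)
      · exact (hone _).1 (pow_orderOf_eq_one _)

/-- **A torus element times two elements of different orders**. -/
theorem twoVan_of_block {r l n : ℕ} (hr : r.Prime) [CharP F r] (hF : Fintype.card F = q ^ 2) (hn : 3 ≤ n)
    (hk : Kill (PSU n F q) r) (hl : l.Prime) (hl2 : l ≠ 2) (hlr : l ≠ r)
    {ι : Type} [Fintype ι] [DecidableEq ι] [Nonempty ι] (h2 : Fintype.card ι + 2 ≤ n)
    (h3 : r = 2 → Fintype.card ι + 3 ≤ n) {A : (Matrix ι ι F)ˣ} (hA : Uni q (A : Matrix ι ι F))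
    (hdet : (A : Matrix ι ι F).det = 1) (hAo : orderOf A = l) : TwoVan l (PSU n F q) := by
  obtain ⟨κ, _, _, _, hκ, B₁, B₂, N, hB₁, hB₂, hd₁, hd₂, ho₁, ho₂, hN⟩ :=
    exists_two_unip (F := F) hr hF (f := n - Fintype.card ι) (by omega) (by omega)
  have hco1 : Nat.Coprime l r := (Nat.coprime_primes hl hr).2 hlr
  have hco2 : Nat.Coprime l 2 := (Nat.coprime_primes hl Nat.prime_two).2 hl2
  obtain ⟨x, hx⟩ := exists_of_coprime hF hn (by omega) hA hB₁ (by rw [hdet, hd₁, one_mul])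
    (by rw [hAo, ho₁]; exact hco1)
  obtain ⟨y, hy⟩ := exists_of_coprime hF hn (by omega) hA hB₂ (by rw [hdet, hd₂, one_mul])
    (by rw [hAo, ho₂, hN]; exact Nat.Coprime.mul_right hco2 hco1)
  rw [hAo, ho₁] at hx
  rw [hAo, ho₂, hN] at hy
  refine H720.PV.twoVan_of_kill (p := l) (r := r) hk (x := x) (y := y) ?_ ?_ ?_ ?_ ?_
  · rw [hx]; exact Dvd.intro _ rfl
  · rw [hx]; exact Dvd.intro_left _ rfl
  · rw [hy]; exact Dvd.intro _ rfl
  · rw [hy]; exact ⟨l * 2, by ring⟩
  · rw [hx, hy]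
    intro h
    have h1 : l * r * 1 = l * r * 2 := (mul_one _).trans (h.trans (by ring))
    have h4 := Nat.eq_of_mul_eq_mul_left (Nat.mul_pos hl.pos hr.pos) h1
    omega

/-- Three independent factors. -/
theorem dvd_three {a b c k : ℕ} (ha : a ∣ k) (hb : b ∣ k) (hc : c ∣ k) (hab : a.Coprime b) (hac : a.Coprime c)
    (hbc : b.Coprime c) : a * b * c ∣ k :=
  (Nat.Coprime.mul_left hac hbc).mul_dvd_of_dvd_of_dvd (hab.mul_dvd_of_dvd_of_dvd ha hb) hc

/-- `PSU_4(q)`, `q` even, `l ∣ q - 1`: elements of order `2 l s`. -/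
theorem exists_four_two [CharP F 2] (hF : Fintype.card F = q ^ 2) {l s : ℕ} (hl : l.Prime) (hl2 : l ≠ 2)
    {b g : Fˣ} (hb : b ^ (q - 1) = 1) (hbo : orderOf b = l) (hg : g ^ (q + 1) = 1) (hgo : orderOf g = s)
    (hs2 : Nat.Coprime 2 s) (hsl : Nat.Coprime l s) : ∃ x : PSU 4 F q, orderOf x = 2 * l * s := by
  have hq := two_le hF
  let A : (Matrix (Fin 2) (Fin 2) F)ˣ := dg ![b * g, b⁻¹ * g]
  have hA : Uni q (A : Matrix (Fin 2) (Fin 2) F) := by
    refine ⟨!![0, 1; 1, 0], ?_, ?_⟩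
    · rw [Matrix.isUnit_iff_isUnit_det, Matrix.det_fin_two_of]
      simp
    · have e1 : ((b : F) * g) ^ q * (((b⁻¹ : Fˣ) : F) * g) = 1 := by
        have h1 : b ^ q = b := by
          have : q = (q - 1) + 1 := by omega
          rw [this, pow_succ, hb, one_mul]
        have h2 : (b * g) ^ q * (b⁻¹ * g) = 1 := by
          rw [mul_pow, h1]
          calc b * g ^ q * (b⁻¹ * g) = (b * b⁻¹) * (g ^ q * g) := by
                rw [mul_mul_mul_comm]
            _ = 1 := by rw [mul_inv_cancel, one_mul, ← pow_succ, hg]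
        have := congrArg Units.val h2
        push_cast at this
        simpa using this
      have e2 : (((b⁻¹ : Fˣ) : F) * g) ^ q * ((b : F) * g) = 1 := by
        have h1 : b⁻¹ ^ q = b⁻¹ := by
          have : q = (q - 1) + 1 := by omega
          rw [this, pow_succ, inv_pow, hb, inv_one, one_mul]
        have h2 : (b⁻¹ * g) ^ q * (b * g) = 1 := by
          rw [mul_pow, h1]
          calc b⁻¹ * g ^ q * (b * g) = (b⁻¹ * b) * (g ^ q * g) := by
                rw [mul_mul_mul_comm]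
            _ = 1 := by rw [inv_mul_cancel, one_mul, ← pow_succ, hg]
        have := congrArg Units.val h2
        push_cast at this
        simpa using this
      have h1 : st q (A : Matrix (Fin 2) (Fin 2) F) =
          !![((b : F) * g) ^ q, 0; 0, (((b⁻¹ : Fˣ) : F) * g) ^ q] := by
        ext i j
        rw [st_apply, coe_dg]
        fin_cases i <;> fin_cases j <;> simp [show q ≠ 0 by omega]
      have h2 : (A : Matrix (Fin 2) (Fin 2) F) = !![((b : F) * g), 0; 0, (((b⁻¹ : Fˣ) : F) * g)] := by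
        rw [coe_dg]
        ext i j
        fin_cases i <;> fin_cases j <;> simp
      rw [h1, h2]
      ext i j
      fin_cases i <;> fin_cases j <;> simp [Matrix.mul_apply, Fin.sum_univ_two]
      · simpa using e1
      · simpa using e2
  let B : (Matrix (Fin 2) (Fin 2) F)ˣ := sm g⁻¹ (tv F)
  have hB : Uni q (B : Matrix (Fin 2) (Fin 2) F) := uni_sm (by rw [inv_pow, hg, inv_one]) (uni_tv hF)
  obtain ⟨x, hx⟩ := exists_psu hF (d := 4) (by norm_num) (by simp) (bs A B) (uni_bs hF hA hB) (by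
    rw [det_bs, det_sm, det_tv, det_dg, Fintype.card_fin]
    simp only [Fin.prod_univ_two, Matrix.cons_val_zero, Matrix.cons_val_one]
    rw [← Units.val_mul, ← Units.val_pow_eq_pow_val, mul_one, ← Units.val_mul]
    have : b * g * (b⁻¹ * g) * g⁻¹ ^ 2 = 1 := by
      rw [mul_mul_mul_comm, mul_inv_cancel, one_mul, ← sq, ← mul_pow, mul_inv_cancel, one_pow]
    rw [this, Units.val_one])
  refine ⟨x, ?_⟩
  have hl2' : Nat.Coprime 2 l := (Nat.coprime_primes Nat.prime_two hl).2 (fun h => hl2 h.symm)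
  apply Nat.dvd_antisymm
  · apply orderOf_dvd_of_pow_eq_one
    rw [hx]
    have hbp : b ^ (2 * l * s) = 1 := by
      rw [← orderOf_dvd_iff_pow_eq_one, hbo]; exact ⟨2 * s, by ring⟩
    have hgp : g ^ (2 * l * s) = 1 := by
      rw [← orderOf_dvd_iff_pow_eq_one, hgo]; exact ⟨2 * l, by ring⟩
    have hA1 : A ^ (2 * l * s) = 1 := by
      apply dg_pow_eq_one
      intro i
      fin_cases i
      · simp [mul_pow, hbp, hgp]
      · simp [mul_pow, hbp, hgp]
    have hB1 : B ^ (2 * l * s) = 1 := by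
      apply Units.ext
      have h0 : ((2 * l * s : ℕ) : F) = 0 := by
        rw [CharP.cast_eq_zero_iff F 2, mul_assoc]; exact Dvd.intro _ rfl
      rw [coe_sm_pow, Units.val_one, tv_pow, ← Units.val_pow_eq_pow_val, inv_pow, hgp, inv_one, Units.val_one,
        one_smul, h0, Matrix.one_fin_two]
    exact ⟨1, by rw [bs_pow, hA1, hB1, bs_one, Units.val_one, map_one]⟩
  · obtain ⟨c, hc⟩ := (hx (orderOf x)).1 (pow_orderOf_eq_one x)
    rw [bs_pow, bs_scalar_iff] at hc
    obtain ⟨h1, h2⟩ := hc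
    set k := orderOf x with hk
    have h3 := dg_scalar h1 0
    have h4 := dg_scalar h1 1
    rw [coe_sm_pow] at h2
    obtain ⟨h5, h6⟩ := tv_scalar (r := 2) (F := F) (Units.ne_zero _) h2
    simp only [Matrix.cons_val_zero, Matrix.cons_val_one] at h3 h4
    have h7 : (b * g) ^ k = (b⁻¹ * g) ^ k := Units.ext (by
      rw [Units.val_pow_eq_pow_val, Units.val_pow_eq_pow_val, h3, h4])
    have h8 : (b * g) ^ k = g⁻¹ ^ k := Units.ext (by
      rw [Units.val_pow_eq_pow_val, Units.val_pow_eq_pow_val, h3, h6])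
    have h9 : b ^ (k * 2) = 1 := by
      rw [mul_pow, mul_pow] at h7
      have := mul_right_cancel h7
      rw [pow_mul, sq]
      nth_rw 1 [this]
      rw [← mul_pow, inv_mul_cancel, one_pow]
    have h10 : l ∣ k := by
      have h11 := orderOf_dvd_of_pow_eq_one h9
      rw [hbo] at h11
      exact (Nat.Coprime.dvd_mul_right hl2'.symm).1 h11
    have h12 : b ^ k = 1 := by rw [← orderOf_dvd_iff_pow_eq_one, hbo]; exact h10
    have h13 : s ∣ k := by
      rw [mul_pow, h12, one_mul, inv_pow, eq_inv_iff_mul_eq_one, ← pow_add, ← two_mul] at h8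
      have h14 := orderOf_dvd_of_pow_eq_one h8
      rw [hgo] at h14
      exact (Nat.Coprime.dvd_mul_left hs2.symm).1 h14
    exact dvd_three h5 h10 h13 hl2' hs2 hsl

/-- `PSU_4(q)`, `q` even, `l ∣ q + 1`: an element of order `4 l`. -/
theorem exists_four_one [CharP F 2] (hF : Fintype.card F = q ^ 2) {l : ℕ} (hl : l.Prime) (hl2 : l ≠ 2)
    {z : Fˣ} (hz : z ^ (q + 1) = 1) (hzo : orderOf z = l) : ∃ x : PSU 4 F q, 4 ∣ orderOf x ∧ l ∣ orderOf x := by
  obtain ⟨b, hb⟩ := exists_trace_one (F := F) hF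
  let A : (Matrix (Fin 3) (Fin 3) F)ˣ := sm z (qu F b)
  let B : (Matrix (Fin 1) (Fin 1) F)ˣ := dg fun _ => z⁻¹ ^ 3
  obtain ⟨x, hx⟩ := exists_psu hF (d := 4) (by norm_num) (by simp) (bs A B) (uni_bs hF (uni_sm hz (uni_qu hF hb))
    (uni_dg hF fun i => by rw [← pow_mul, mul_comm, pow_mul, inv_pow, hz, inv_one, one_pow])) (by
    rw [det_bs, det_sm, det_qu, det_dg, Fintype.card_fin]
    simp)
  refine ⟨x, ?_⟩
  obtain ⟨c, hc⟩ := (hx (orderOf x)).1 (pow_orderOf_eq_one x)
  rw [bs_pow, bs_scalar_iff] at hc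
  obtain ⟨h1, h2⟩ := hc
  set k := orderOf x with hk
  rw [coe_sm_pow] at h1
  have h3 : (((qu F b) ^ k : (Matrix (Fin 3) (Fin 3) F)ˣ) : Matrix (Fin 3) (Fin 3) F) =
      Matrix.scalar (Fin 3) (((z⁻¹ ^ k : Fˣ) : F) * c) := by
    have h4 : (((z⁻¹ ^ k : Fˣ) : F)) • ((z : F) ^ k • (((qu F b) ^ k : (Matrix (Fin 3) (Fin 3) F)ˣ) : Matrix (Fin 3) (Fin 3) F)) =
        (((z⁻¹ ^ k : Fˣ) : F)) • Matrix.scalar (Fin 3) c := congrArg _ h1
    rw [smul_smul, ← Units.val_pow_eq_pow_val z, ← Units.val_mul, ← mul_pow, inv_mul_cancel, one_pow,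
      Units.val_one, one_smul] at h4
    rw [h4, map_mul]
    ext i j
    simp [Matrix.scalar_apply, Matrix.diagonal_apply, Matrix.mul_apply]
  obtain ⟨h4, h5⟩ := qu_scalar h3
  refine ⟨h4, ?_⟩
  have h6 := dg_scalar h2 0
  have h7 : c = ((z ^ k : Fˣ) : F) := by
    have h8 : ((z ^ k : Fˣ) : F) * (((z⁻¹ ^ k : Fˣ) : F) * c) = ((z ^ k : Fˣ) : F) := by rw [h5, mul_one]
    rw [← mul_assoc, ← Units.val_mul, ← mul_pow, mul_inv_cancel, one_pow, Units.val_one, one_mul] at h8
    exact h8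
  have h8 : (z⁻¹ ^ 3) ^ k = z ^ k := Units.ext (by
    rw [← h7, ← h6, Units.val_pow_eq_pow_val])
  have h9 : z ^ (4 * k) = 1 := by
    have : z ^ (4 * k) = z ^ k * (z ^ 3) ^ k := by rw [← pow_mul, ← pow_add]; congr 1; ring
    rw [this, ← h8, ← mul_pow, ← mul_pow, inv_mul_cancel, one_pow, one_pow]
  have h10 := orderOf_dvd_of_pow_eq_one h9
  rw [hzo] at h10
  have hco : Nat.Coprime l 4 := by
    have := (Nat.coprime_primes hl Nat.prime_two).2 hl2
    exact Nat.Coprime.pow_right 2 this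
  exact (Nat.Coprime.dvd_mul_left hco).1 h10

end Cfsg.Agent.H206.VanPSU
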